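import Groth.Agent.Sga4h.H918.Ask
import Groth.Agent.Sga5.H835.InvRes

/-!
# The rank one sheaves `F_θ(f, u)`

`F ρ θ f u`: the sheaf of `Λ`-modules on the `k`-scheme `X` attached to a character `θ` of `k × k^*`, a function `f` and
an invertible function `u`.
* `nonempty_iso_F`: characterisation by a generator on any model of the covering;
* `pullF`: base change;
* `mulF`: `F_θ(f + f', u u') ≅ F_θ(f, u) ⊗ F_θ(f', u')`;
* `charF`: `F_{θθ'}(f, u) ≅ F_θ(f, u) ⊗ F_θ'(f, u)`;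
* `trivF`: `F_θ(z ^ q - z, y ^ (q - 1)) ≅ Λ`;
* `trivF_left`, `trivF_right`: `F_θ(0, u) ≅ Λ` if `θ` is trivial on `k^*`, `F_θ(f, 1) ≅ Λ` if `θ` is trivial on `k`.
-/

set_option autoImplicit false

universe u

open CategoryTheory CategoryTheory.Limits AlgebraicGeometry Polynomial Opposite

namespace Groth.Agent.Sga4h.H918.Lang

open Groth.Agent.Etbase Groth.Agent.Etcore Groth.Agent.EtpbcA Groth.Agent.Etcore.LVan
open Groth.Agent.Sga4h.H918.Gen Groth.Agent.Sga4h.H918.Tw Groth.Agent.Sga4h.H918.Ask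
open Groth.Agent.Sga4h.H918.Tens (tens)

variable {k : Type*} [Field k] [Fintype k] {Λ : Type (u + 1)} [CommRing Λ]
variable {X : Scheme.{u}} {ρ : k →+* Γ(X, ⊤)} {f u : Γ(X, ⊤)}

/-- The comparison of two models. -/
theorem exists_cmp (T T' : Tor ρ f u) : ∃ a : T.T ⟶ T'.T, ∀ g, T.act g ≫ a = a ≫ T'.act g := by
  obtain ⟨a, h1, h2⟩ := T'.exists_hom T.T T.z T.y T.eq_z T.eq_y
  refine ⟨a, fun g => T'.hom_ext ?_ ?_⟩
  · rw [pb_comp, pb_comp, h1, T'.act_z, T.act_z, map_add, h1, Tor.pb_cst]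
  · rw [pb_comp, pb_comp, h2, T'.act_y, T.act_y, map_mul, h2, Tor.pb_cst]

/-- A generator on one model gives a generator on every model. -/
theorem hasGen_model {L : EtModW.Mod Λ X} {θ : GG k → Λ} (T T' : Tor ρ f u) (h : HasGen L T.T T.act θ) :
    HasGen L T'.T T'.act θ := by
  obtain ⟨a, ha⟩ := exists_cmp T' T
  exact h.res a id ha

/-- A chosen model. -/
theorem exists_tor (ρ : k →+* Γ(X, ⊤)) (f u : Γ(X, ⊤)) (hu : IsUnit u) : Nonempty (Tor ρ f u) := by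
  obtain ⟨T, z, y, h, -⟩ := exists_cover ρ f u hu
  exact ⟨⟨T, z, y, h, hu⟩⟩

/-- A chosen model. -/
noncomputable def tor (ρ : k →+* Γ(X, ⊤)) (f u : Γ(X, ⊤)) (hu : IsUnit u) : Tor ρ f u :=
  (exists_tor ρ f u hu).some

/-- The sheaf `F_θ(f, u)`. -/
noncomputable def F (ρ : k →+* Γ(X, ⊤)) (θ : GG k →* Λˣ) (f u : Γ(X, ⊤)) (hu : IsUnit u) : EtModW.Mod Λ X :=
  tw (tor ρ f u hu).torsAct θ

theorem hasGen_F (T : Tor ρ f u) (θ : GG k →* Λˣ) :
    HasGen (F ρ θ f u T.isUnit) T.T T.act (fun g => (θ g : Λ)) :=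
  hasGen_model (tor ρ f u T.isUnit) T (hasGen_tw _ θ)

/-- Characterisation of `F_θ(f, u)`. -/
theorem nonempty_iso_F (T : Tor ρ f u) (θ : GG k →* Λˣ) {L : EtModW.Mod Λ X}
    (h : HasGen L T.T T.act (fun g => (θ g : Λ))) : Nonempty (L ≅ F ρ θ f u T.isUnit) :=
  HasGen.unique T.surj T.locTrans h (hasGen_F T θ)

section Pull

variable {Y : Scheme.{u}} (g : Y ⟶ X)

/-- Base change of a model. -/
noncomputable def _root_.Groth.Agent.Sga4h.H918.Ask.Tor.pull (T : Tor ρ f u) :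
    Tor (g.appTop.hom.comp ρ) (g.appTop.hom f) (g.appTop.hom u) where
  T := (EtCoh.bc g).obj T.T
  z := (pullback.fst T.T.hom g).appTop.hom T.z
  y := (pullback.fst T.T.hom g).appTop.hom T.y
  isASK := T.isASK.baseChange g (IsPullback.of_hasPullback T.T.hom g)
  isUnit := T.isUnit.map _

theorem bc_map_act (T : Tor ρ f u) (a : GG k) : (EtCoh.bc g).map (T.act a) = (T.pull g).act a := by
  have e : ((EtCoh.bc g).map (T.act a)).left ≫ pullback.fst T.T.hom g = pullback.fst T.T.hom g ≫ (T.act a).left :=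
    (EtCoh.isPullback_bc_map g (T.act a)).w
  have e2 : ∀ s : Γ(T.T.left, ⊤), pb ((EtCoh.bc g).map (T.act a)) ((pullback.fst T.T.hom g).appTop.hom s) =
      (pullback.fst T.T.hom g).appTop.hom (pb (T.act a) s) := by
    intro s
    change (((EtCoh.bc g).map (T.act a)).left ≫ pullback.fst T.T.hom g).appTop.hom s = _
    rw [e]
    rfl
  have e3 : ∀ s : Γ(X, ⊤), (pullback.fst T.T.hom g).appTop.hom (fb T.T s) = fb (T.pull g).T (g.appTop.hom s) := by
    intro s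
    change (pullback.fst T.T.hom g ≫ T.T.hom).appTop.hom s = (pullback.snd T.T.hom g ≫ g).appTop.hom s
    rw [pullback.condition]
  apply (T.pull g).hom_ext
  · refine (e2 T.z).trans (Eq.trans ?_ ((T.pull g).act_z a).symm)
    rw [T.act_z, map_add]
    exact congrArg (fun q => (T.pull g).z + q) (e3 (ρ (Multiplicative.toAdd a.1)))
  · refine (e2 T.y).trans (Eq.trans ?_ ((T.pull g).act_y a).symm)
    rw [T.act_y, map_mul]
    exact congrArg (fun q => q * (T.pull g).y) (e3 (ρ (a.2 : k)))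

/-- Base change of `F_θ(f, u)`. -/
theorem pullF (θ : GG k →* Λˣ) (hu : IsUnit u) : Nonempty ((EtModW.pull Λ g).obj (F ρ θ f u hu) ≅
    F (g.appTop.hom.comp ρ) θ (g.appTop.hom f) (g.appTop.hom u) (hu.map _)) := by
  let T := tor ρ f u hu
  apply nonempty_iso_F (T.pull g)
  have h := (hasGen_F T θ).pull g
  have e : (fun a => (EtCoh.bc g).map (T.act a)) = (T.pull g).act := funext fun a => bc_map_act g T a
  rw [e] at h
  exact h

end Pull

/-- `F_{θθ'}(f, u) ≅ F_θ(f, u) ⊗ F_θ'(f, u)`. -/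
theorem charF (θ θ' : GG k →* Λˣ) (hu : IsUnit u) :
    Nonempty (F ρ (θ * θ') f u hu ≅ tens (F ρ θ f u hu) (F ρ θ' f u hu)) := by
  let T := tor ρ f u hu
  obtain ⟨e⟩ := nonempty_iso_F T (θ * θ') (Tens.HasGen.tens (hasGen_F T θ) (hasGen_F T θ'))
  exact ⟨e.symm⟩

section Const

/-- The constant sheaf has an invariant generator on every étale scheme. -/
theorem hasGen_const (T : X.Etale) {G : Type*} (act : G → (T ⟶ T)) :
    HasGen (EtModW.constMod Λ X Λ) T act (fun _ => (1 : Λ)) := by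
  obtain ⟨φ, hφ⟩ := Groth.Agent.Sga5.H835.InvRes.exists_of_iso_constMod (Iso.refl (EtModW.constMod Λ X Λ))
  have h1 : sMap (EtModW.constMod Λ X Λ) (φ 1) = φ := by
    ext
    simp
  have h2 : IsGen (EtModW.constMod Λ X Λ) (φ 1) := by
    intro y
    rw [h1]
    exact hφ y
  let i : T ⟶ EtCoh.top X := Groth.Agent.Sga5.H835.InvRes.toTop T
  refine ⟨res _ i (φ 1), h2.res i, fun g => ?_⟩
  rw [one_smul, ← res_comp]
  congr 3
  exact MorphismProperty.Over.Hom.ext (MorphismProperty.Over.w (act g))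

variable (Λ) in
/-- A sheaf with an invariant generator on a covering torsor is constant. -/
theorem nonempty_iso_const (T : Tor ρ f u) {L : EtModW.Mod Λ X} (h : HasGen L T.T T.act (fun _ => (1 : Λ))) :
    Nonempty (L ≅ EtModW.constMod Λ X Λ) :=
  HasGen.unique T.surj T.locTrans h (hasGen_const T.T T.act)

theorem nonempty_iso_of_idem (T : Tor ρ f u) (θ : GG k →* Λˣ) (p : T.T ⟶ T.T) (φ : GG k → GG k)
    (hp : ∀ g, T.act g ≫ p = p ≫ T.act (φ g)) (hφ : ∀ g, θ (φ g) = 1) :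
    Nonempty (F ρ θ f u T.isUnit ≅ EtModW.constMod Λ X Λ) := by
  apply nonempty_iso_const Λ T
  have h := (hasGen_F T θ).res p φ hp
  have e : (fun g => ((θ (φ g) : Λˣ) : Λ)) = fun _ => (1 : Λ) := by
    funext g
    rw [hφ, Units.val_one]
  rw [e] at h
  exact h

/-- `F_θ(z ^ q - z, y ^ (q - 1)) ≅ Λ`. -/
theorem trivF (θ : GG k →* Λˣ) (z y : Γ(X, ⊤)) (hz : z ^ Fintype.card k - z = f)
    (hy : y ^ (Fintype.card k - 1) = u) (hu : IsUnit u) :
    Nonempty (F ρ θ f u hu ≅ EtModW.constMod Λ X Λ) := by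
  let T := tor ρ f u hu
  obtain ⟨p, hp1, hp2⟩ := T.exists_hom T.T (fb T.T z) (fb T.T y)
    (by rw [← map_pow, ← map_sub, hz]) (by rw [← map_pow, hy])
  refine nonempty_iso_of_idem T θ p (fun _ => 1) (fun g => ?_) (fun g => map_one θ)
  rw [T.act_one, Category.comp_id]
  apply T.hom_ext
  · rw [pb_comp, hp1, pb_fb]
  · rw [pb_comp, hp2, pb_fb]

/-- `F_θ(0, u) ≅ Λ` if `θ` is trivial on `k^*`. -/
theorem trivF_left (θ : GG k →* Λˣ) (hθ : ∀ d : kˣ, θ (1, d) = 1) (hu : IsUnit u) :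
    Nonempty (F ρ θ 0 u hu ≅ EtModW.constMod Λ X Λ) := by
  let T := tor ρ 0 u hu
  obtain ⟨p, hp1, hp2⟩ := T.exists_hom T.T 0 T.y
    (by rw [zero_pow Fintype.card_ne_zero, sub_zero, map_zero]) T.eq_y
  refine nonempty_iso_of_idem T θ p (fun g => (1, g.2)) (fun g => T.hom_ext ?_ ?_) (fun g => hθ _)
  · rw [pb_comp, pb_comp, hp1, T.act_z, map_add, hp1, Tor.pb_cst, map_zero]
    change _ = 0 + Tor.cst ρ T.T (0 : k)
    rw [map_zero, add_zero]
  · rw [pb_comp, pb_comp, hp2, T.act_y, T.act_y, map_mul, hp2, Tor.pb_cst]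

/-- `F_θ(f, 1) ≅ Λ` if `θ` is trivial on `k`. -/
theorem trivF_right (θ : GG k →* Λˣ) (hθ : ∀ c : Multiplicative k, θ (c, 1) = 1) :
    Nonempty (F ρ θ f 1 isUnit_one ≅ EtModW.constMod Λ X Λ) := by
  let T := tor ρ f 1 isUnit_one
  obtain ⟨p, hp1, hp2⟩ := T.exists_hom T.T T.z 1 T.eq_z (by rw [one_pow, map_one])
  refine nonempty_iso_of_idem T θ p (fun g => (g.1, 1)) (fun g => T.hom_ext ?_ ?_) (fun g => hθ _)
  · rw [pb_comp, pb_comp, hp1, T.act_z, T.act_z, map_add, hp1, Tor.pb_cst]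
  · rw [pb_comp, pb_comp, hp2, T.act_y, map_mul, hp2, Tor.pb_cst, map_one]
    change 1 = Tor.cst ρ T.T (1 : k) * 1
    rw [map_one, mul_one]

end Const

section Mul

variable {f' u' : Γ(X, ⊤)} (T : Tor ρ f u) (T' : Tor ρ f' u')

/-- The action of the product group on the product of two coverings. -/
theorem exists_pact (g : GG k × GG k) : ∃ a : PT T'.T T.T ⟶ PT T'.T T.T,
    a ≫ p1 T'.T T.T = p1 T'.T T.T ≫ T.act g.1 ∧ a ≫ p2 T'.T T.T = p2 T'.T T.T ≫ T'.act g.2 :=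
  ⟨plift (p1 T'.T T.T ≫ T.act g.1) (p2 T'.T T.T ≫ T'.act g.2), plift_p1 _ _, plift_p2 _ _⟩

/-- The action of the product group on the product of two coverings. -/
noncomputable def pact (g : GG k × GG k) : PT T'.T T.T ⟶ PT T'.T T.T := (exists_pact T T' g).choose

theorem pact_p1 (g : GG k × GG k) : pact T T' g ≫ p1 T'.T T.T = p1 T'.T T.T ≫ T.act g.1 :=
  (exists_pact T T' g).choose_spec.1

theorem pact_p2 (g : GG k × GG k) : pact T T' g ≫ p2 T'.T T.T = p2 T'.T T.T ≫ T'.act g.2 :=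
  (exists_pact T T' g).choose_spec.2

theorem locTrans_pact : LocTrans (pact T T') := by
  intro W a b w
  obtain ⟨W₁, c₁, w₁, g, h1, h2⟩ := T.locTrans W (a ≫ p1 _ _) (b ≫ p1 _ _) w
  obtain ⟨W₂, c₂, w₂, g', h3, h4⟩ := T'.locTrans W₁ (c₁ ≫ a ≫ p2 _ _) (c₁ ≫ b ≫ p2 _ _) w₁
  refine ⟨W₂, c₂ ≫ c₁, w₂, (g, g'), ?_, phom_ext ?_ ?_⟩
  · change c₁.left (c₂.left w₂) = w
    rw [h3, h1]
  · simp only [Category.assoc, pact_p1]
    rw [h2]
    simp only [Category.assoc]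
  · simp only [Category.assoc, pact_p2]
    rw [h4]
    simp only [Category.assoc]

theorem surj_PT (x : X) : ∃ t : (PT T'.T T.T).left, (PT T'.T T.T).hom t = x := by
  obtain ⟨t, ht⟩ := T.surj x
  obtain ⟨t', ht'⟩ := T'.surj x
  obtain ⟨z, hz1, hz2⟩ := Scheme.Pullback.exists_preimage_pullback (f := T.T.hom) (g := T'.T.hom) t t'
    (ht.trans ht'.symm)
  refine ⟨z, ?_⟩
  change T.T.hom (pullback.fst T.T.hom T'.T.hom z) = x
  rw [hz1, ht]

/-- `F_θ(f + f', u u') ≅ F_θ(f, u) ⊗ F_θ(f', u')`. -/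
theorem mulF (ρ : k →+* Γ(X, ⊤)) (θ : GG k →* Λˣ) (hu : IsUnit u) (hu' : IsUnit u') :
    Nonempty (F ρ θ (f + f') (u * u') (hu.mul hu') ≅ tens (F ρ θ f u hu) (F ρ θ f' u' hu')) := by
  let T := tor ρ f u hu
  let T' := tor ρ f' u' hu'
  let T'' := tor ρ (f + f') (u * u') (hu.mul hu')
  let P := PT T'.T T.T
  obtain ⟨m, hm1, hm2⟩ := T''.exists_hom P (pb (p1 T'.T T.T) T.z + pb (p2 T'.T T.T) T'.z)
    (pb (p1 T'.T T.T) T.y * pb (p2 T'.T T.T) T'.y)
    (by
      rw [FrobFix.add_pow_card (Tor.cst ρ P), ← map_pow, ← map_pow, map_add (fb P)]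
      have h1 := congrArg (pb (p1 T'.T T.T)) T.eq_z
      have h2 := congrArg (pb (p2 T'.T T.T)) T'.eq_z
      rw [map_sub, pb_fb] at h1 h2
      linear_combination h1 + h2)
    (by
      rw [mul_pow, ← map_pow, ← map_pow, T.eq_y, T'.eq_y, pb_fb, pb_fb, map_mul])
  have hm : ∀ g : GG k × GG k, pact T T' g ≫ m = m ≫ T''.act (g.1 * g.2) := by
    intro g
    apply T''.hom_ext
    · rw [pb_comp, pb_comp, hm1, T''.act_z, map_add, map_add, hm1, Tor.pb_cst, ← pb_comp, ← pb_comp, pact_p1, pact_p2,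
        pb_comp, pb_comp, T.act_z, T'.act_z, map_add, map_add, Tor.pb_cst, Tor.pb_cst]
      change _ = _ + Tor.cst ρ P (Multiplicative.toAdd g.1.1 + Multiplicative.toAdd g.2.1)
      rw [map_add]
      ring
    · rw [pb_comp, pb_comp, hm2, T''.act_y, map_mul, map_mul, hm2, Tor.pb_cst, ← pb_comp, ← pb_comp, pact_p1, pact_p2,
        pb_comp, pb_comp, T.act_y, T'.act_y, map_mul, map_mul, Tor.pb_cst, Tor.pb_cst]
      change _ = Tor.cst ρ P ((g.1.2 : k) * g.2.2) * _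
      rw [map_mul]
      ring
  have h1 := (hasGen_F T'' θ).res m (act' := pact T T') (fun g => g.1 * g.2) hm
  have h2 := Tens.HasGen.tens ((hasGen_F T θ).res (p1 T'.T T.T) (act' := pact T T') (fun g => g.1) (pact_p1 T T'))
    ((hasGen_F T' θ).res (p2 T'.T T.T) (act' := pact T T') (fun g => g.2) (pact_p2 T T'))
  refine HasGen.unique (surj_PT T T') (locTrans_pact T T') h1 ?_
  have e : (fun g : GG k × GG k => ((θ (g.1 * g.2) : Λˣ) : Λ)) = fun g => (θ g.1 : Λ) * (θ g.2 : Λ) := by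
    funext g
    rw [map_mul, Units.val_mul]
  rw [e]
  exact h2

end Mul

end Groth.Agent.Sga4h.H918.Lang
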