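import Groth.Agent.Sga4h.H918.Ask
import Groth.Agent.Sga4h.H917.KumSch
import Groth.Prelude.Def_LangSh

/-!
# The Artin–Schreier–Kummer covering of an affine scheme

`isASK_spec`: `Spec R[z, y]/(z ^ q - z - g, y ^ (q - 1) - u) ⟶ Spec R` is the covering of `(g, u)`.
-/

set_option autoImplicit false

universe u

open CategoryTheory CategoryTheory.Limits AlgebraicGeometry Polynomial Opposite

namespace Groth.Agent.Sga4h.H918.SpecCov

open Groth.Agent.Sga4h.H918.Root Groth.Agent.Sga4h.H918.Ask Groth.Agent.Sga4h.H917.KumSch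

/-- Elements of `R` as functions on `Spec R`. -/
noncomputable abbrev gm (R : Type u) [CommRing R] : R →+* Γ(Spec (CommRingCat.of R), ⊤) :=
  (Scheme.ΓSpecIso (CommRingCat.of R)).inv.hom

theorem appTop_gm {R S : Type u} [CommRing R] [CommRing S] (φ : R →+* S) (a : R) :
    (Spec.map (CommRingCat.ofHom φ)).appTop.hom (gm R a) = gm S (φ a) :=
  congrArg (fun k => k.hom a) (Scheme.ΓSpecIso_inv_naturality (CommRingCat.ofHom φ)).symm

theorem isRoot_spec {R : Type u} [CommRing R] (P : R[X]) :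
    IsRoot (Spec.map (CommRingCat.ofHom (AdjoinRoot.of P))) (P.map (gm R)) (gm (AdjoinRoot P) (AdjoinRoot.root P)) where
  eval_eq := by
    rw [eval₂_map]
    have h : (Spec.map (CommRingCat.ofHom (AdjoinRoot.of P))).appTop.hom.comp (gm R) =
        (gm (AdjoinRoot P)).comp (AdjoinRoot.of P) := by
      ext a
      exact appTop_gm _ a
    rw [h, ← hom_eval₂, AdjoinRoot.eval₂_root, map_zero]
  exists_lift {Z} h y hy := by
    rw [eval₂_map] at hy
    let φ : AdjoinRoot P →+* Γ(Z, ⊤) := AdjoinRoot.lift (h.appTop.hom.comp (gm R)) y hy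
    refine ⟨ofVal φ, ?_, ?_⟩
    · apply val_ext
      ext a
      rw [val_spec, val_ofVal]
      exact AdjoinRoot.lift_of hy
    · have h1 : (ofVal φ : Z ⟶ Spec (CommRingCat.of (AdjoinRoot P))).appTop.hom
          (gm (AdjoinRoot P) (AdjoinRoot.root P)) = val (ofVal φ) (AdjoinRoot.root P) := rfl
      rw [h1, val_ofVal]
      exact AdjoinRoot.lift_root hy
  uniq {Z} a b hab hx := by
    apply val_ext
    apply AdjoinRoot.ringHom_ext
    · ext r
      have h1 := val_spec a (AdjoinRoot.of P) r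
      have h2 := val_spec b (AdjoinRoot.of P) r
      rw [hab] at h1
      exact h1.symm.trans h2
    · exact hx

/-- The element `z` of the Artin–Schreier–Kummer algebra. -/
noncomputable def zz {R : Type u} [CommRing R] (q : ℕ) (g : R) (m : ℕ) (u : R) : LangSh.ASKAlg R q g m u :=
  AdjoinRoot.of _ (AdjoinRoot.root _)

/-- The element `y` of the Artin–Schreier–Kummer algebra. -/
noncomputable def yy {R : Type u} [CommRing R] (q : ℕ) (g : R) (m : ℕ) (u : R) : LangSh.ASKAlg R q g m u :=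
  AdjoinRoot.root _

theorem isASK_spec {R : Type u} [CommRing R] (q : ℕ) (g u : R) :
    IsASK q (LangSh.cover R (LangSh.ASKAlg R q g (q - 1) u)) (gm R g) (gm R u)
      (gm _ (zz q g (q - 1) u)) (gm _ (yy q g (q - 1) u)) := by
  let R₁ : Type u := LangSh.ASAlg R q g
  let π₁ : Spec (CommRingCat.of R₁) ⟶ Spec (CommRingCat.of R) := Spec.map (CommRingCat.ofHom (AdjoinRoot.of _))
  let π₂ : Spec (CommRingCat.of (LangSh.ASKAlg R q g (q - 1) u)) ⟶ Spec (CommRingCat.of R₁) :=
    Spec.map (CommRingCat.ofHom (AdjoinRoot.of _))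
  have h1 : IsRoot π₁ (PA q (gm R g)) (gm R₁ (AdjoinRoot.root _)) := by
    have h := isRoot_spec (X ^ q - X - C g : R[X])
    have e : (X ^ q - X - C g : R[X]).map (gm R) = PA q (gm R g) := by
      rw [Polynomial.map_sub, Polynomial.map_sub, Polynomial.map_pow, map_X, map_C]
    rw [e] at h
    exact h
  have h2 : IsRoot π₂ (PB q (π₁.appTop.hom (gm R u))) (gm _ (yy q g (q - 1) u)) := by
    have h := isRoot_spec (X ^ (q - 1) - C (algebraMap R (LangSh.ASAlg R q g) u) : (LangSh.ASAlg R q g)[X])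
    have e : (X ^ (q - 1) - C (algebraMap R (LangSh.ASAlg R q g) u) : (LangSh.ASAlg R q g)[X]).map (gm R₁) =
        PB q (π₁.appTop.hom (gm R u)) := by
      rw [Polynomial.map_sub, Polynomial.map_pow, map_X, map_C, appTop_gm]
      rfl
    rw [e] at h
    exact h
  have h3 := isASK_comp h1 h2
  have e1 : π₂ ≫ π₁ = LangSh.cover R (LangSh.ASKAlg R q g (q - 1) u) := by
    change Spec.map _ ≫ Spec.map _ = Spec.map _
    rw [← Spec.map_comp, ← CommRingCat.ofHom_comp]
    rfl
  have e2 : π₂.appTop.hom (gm R₁ (AdjoinRoot.root _)) = gm _ (zz q g (q - 1) u) := appTop_gm _ _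
  rw [e1, e2] at h3
  exact h3

/-- Two models of the covering are isomorphic. -/
theorem nonempty_iso_of_isASK {T T' X : Scheme.{u}} {q : ℕ} {π : T ⟶ X} {π' : T' ⟶ X} {f v : Γ(X, ⊤)}
    {z y : Γ(T, ⊤)} {z' y' : Γ(T', ⊤)} (h : IsASK q π f v z y) (h' : IsASK q π' f v z' y') :
    ∃ e : T ≅ T', e.hom ≫ π' = π ∧ e.hom.appTop.hom z' = z ∧ e.hom.appTop.hom y' = y := by
  obtain ⟨a, a1, a2, a3⟩ := h'.exists_lift π z y h.eq_z h.eq_y
  obtain ⟨b, b1, b2, b3⟩ := h.exists_lift π' z' y' h'.eq_z h'.eq_y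
  refine ⟨⟨a, b, ?_, ?_⟩, a1, a2, a3⟩
  · apply h.uniq
    · rw [Category.assoc, b1, a1, Category.id_comp]
    · rw [Scheme.Hom.comp_appTop]
      exact (congrArg a.appTop.hom b2).trans (a2.trans rfl)
    · rw [Scheme.Hom.comp_appTop]
      exact (congrArg a.appTop.hom b3).trans (a3.trans rfl)
  · apply h'.uniq
    · rw [Category.assoc, a1, b1, Category.id_comp]
    · rw [Scheme.Hom.comp_appTop]
      exact (congrArg b.appTop.hom a2).trans (b2.trans rfl)
    · rw [Scheme.Hom.comp_appTop]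
      exact (congrArg b.appTop.hom a3).trans (b3.trans rfl)

end Groth.Agent.Sga4h.H918.SpecCov
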