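import Groth.Agent.Sga4h.H918.Ask
import Mathlib.Algebra.Group.AddChar
import Mathlib.NumberTheory.MulChar.Basic
import Mathlib.NumberTheory.GaussSum

/-!
# Characters of `k × k^*` determined by their values on the graph `(x, x)`
-/

set_option autoImplicit false

namespace Groth.Agent.Sga4h.H918.CharEq

open Groth.Agent.Sga4h.H918.Ask (GG)

theorem eq_one_of_coprime {M : Type*} [Monoid M] (a : M) (m n : ℕ) (h : m.Coprime n) (hm : a ^ m = 1)
    (hn : a ^ n = 1) : a = 1 := by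
  have h1 : orderOf a ∣ 1 := by
    rw [← h]
    exact Nat.dvd_gcd (orderOf_dvd_of_pow_eq_one hm) (orderOf_dvd_of_pow_eq_one hn)
  exact orderOf_eq_one_iff.1 (Nat.dvd_one.1 h1)

variable {k : Type*} [Field k] [Fintype k]

theorem coprime_char : (ringChar k).Coprime (Fintype.card k - 1) := by
  obtain ⟨n, hp, hc⟩ := FiniteField.card k (ringChar k)
  rw [Nat.Prime.coprime_iff_not_dvd hp]
  intro h
  have h1 : ringChar k ∣ Fintype.card k := by
    rw [hc]
    exact dvd_pow_self _ n.ne_zero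
  have h2 : Fintype.card k - (Fintype.card k - 1) = 1 := Nat.sub_sub_self Fintype.card_pos
  have h3 := (Nat.dvd_sub h1 h)
  rw [h2] at h3
  exact hp.one_lt.ne' (Nat.dvd_one.1 h3)

variable {Λ : Type*} [CommRing Λ]

/-- A character of `k × k^*` is determined by its values on the graph. -/
theorem char_eq (θ : GG k →* Λˣ) (ψ : AddChar k Λ) (χ : MulChar k Λ)
    (h : ∀ x : kˣ, ((θ (Multiplicative.ofAdd (-(x : k)), x⁻¹) : Λˣ) : Λ) = ψ x * χ x) :
    (∀ c : k, ((θ (Multiplicative.ofAdd c, 1) : Λˣ) : Λ) = ψ (-c)) ∧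
      ∀ d : kˣ, ((θ (1, d) : Λˣ) : Λ) = χ ((d⁻¹ : kˣ) : k) := by
  have hψ : ∀ c : k, ψ c * ψ (-c) = 1 := fun c => by
    rw [← AddChar.map_add_eq_mul, add_neg_cancel, AddChar.map_zero_eq_one]
  have hχ : ∀ d : kˣ, χ d * χ ((d⁻¹ : kˣ) : k) = 1 := fun d => by
    rw [← map_mul, Units.mul_inv, map_one]
  have key : ∀ x : kˣ, ((θ (Multiplicative.ofAdd (-(x : k)), 1) : Λˣ) : Λ) * ψ (-x) = 1 ∧
      ((θ (1, x⁻¹) : Λˣ) : Λ) * χ ((x⁻¹ : kˣ) : k) = 1 := by
    intro x
    have h1 : ((θ (Multiplicative.ofAdd (-(x : k)), 1) : Λˣ) : Λ) * ((θ (1, x⁻¹) : Λˣ) : Λ) = ψ x * χ x := by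
      rw [← h x, ← Units.val_mul, ← map_mul, Prod.mk_mul_mk, mul_one, one_mul]
    have h2 : (((θ (Multiplicative.ofAdd (-(x : k)), 1) : Λˣ) : Λ) * ψ (-x)) *
        (((θ (1, x⁻¹) : Λˣ) : Λ) * χ ((x⁻¹ : kˣ) : k)) = 1 := by
      rw [mul_mul_mul_comm, h1, mul_mul_mul_comm, hψ, hχ, one_mul]
    have h3 : (((θ (Multiplicative.ofAdd (-(x : k)), 1) : Λˣ) : Λ) * ψ (-x)) ^ ringChar k = 1 := by
      have e1 : (θ (Multiplicative.ofAdd (-(x : k)), 1)) ^ ringChar k = 1 := by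
        rw [← map_pow, Prod.pow_mk, one_pow, ← ofAdd_nsmul, nsmul_eq_mul, ringChar.Nat.cast_ringChar, zero_mul]
        exact map_one θ
      rw [mul_pow, ← Units.val_pow_eq_pow_val, e1, Units.val_one, one_mul, ← AddChar.map_nsmul_eq_pow,
        nsmul_eq_mul, ringChar.Nat.cast_ringChar, zero_mul, AddChar.map_zero_eq_one]
    have h4 : (((θ (1, x⁻¹) : Λˣ) : Λ) * χ ((x⁻¹ : kˣ) : k)) ^ (Fintype.card k - 1) = 1 := by
      have e0 : (x⁻¹ : kˣ) ^ (Fintype.card k - 1) = 1 := by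
        apply Units.ext
        rw [Units.val_pow_eq_pow_val, FiniteField.pow_card_sub_one_eq_one _ (x⁻¹).ne_zero, Units.val_one]
      have e1 : (θ (1, x⁻¹)) ^ (Fintype.card k - 1) = 1 := by
        rw [← map_pow, Prod.pow_mk, one_pow, e0]
        exact map_one θ
      rw [mul_pow, ← Units.val_pow_eq_pow_val, e1, Units.val_one, one_mul, ← map_pow, ← Units.val_pow_eq_pow_val,
        e0, Units.val_one, map_one]
    have h5 : (((θ (Multiplicative.ofAdd (-(x : k)), 1) : Λˣ) : Λ) * ψ (-x)) ^ (Fintype.card k - 1) = 1 := by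
      have := congrArg (fun t => t ^ (Fintype.card k - 1)) h2
      simp only [mul_pow] at this h4 ⊢
      rw [h4, mul_one, one_pow] at this
      exact this
    have h6 := eq_one_of_coprime _ _ _ coprime_char h3 h5
    refine ⟨h6, ?_⟩
    rw [h6, one_mul] at h2
    exact h2
  constructor
  · intro c
    by_cases hc : c = 0
    · subst hc
      rw [neg_zero, AddChar.map_zero_eq_one]
      have : (Multiplicative.ofAdd (0 : k), (1 : kˣ)) = 1 := rfl
      rw [this, map_one, Units.val_one]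
    · have h1 := (key (Units.mk0 (-c) (neg_ne_zero.2 hc))).1
      rw [Units.val_mk0, neg_neg] at h1
      have h2 := hψ c
      calc ((θ (Multiplicative.ofAdd c, 1) : Λˣ) : Λ)
          = (((θ (Multiplicative.ofAdd c, 1) : Λˣ) : Λ) * ψ c) * ψ (-c) := by rw [mul_assoc, h2, mul_one]
        _ = ψ (-c) := by rw [h1, one_mul]
  · intro d
    have h1 := (key d⁻¹).2
    rw [inv_inv] at h1
    calc ((θ (1, d) : Λˣ) : Λ) = (((θ (1, d) : Λˣ) : Λ) * χ d) * χ ((d⁻¹ : kˣ) : k) := by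
          rw [mul_assoc, hχ, mul_one]
      _ = χ ((d⁻¹ : kˣ) : k) := by rw [h1, one_mul]

end Groth.Agent.Sga4h.H918.CharEq
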