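import Groth.Agent.Sga4h.H918.ConnAlg
import Groth.Prelude.Def_LangSh

/-!
# Connectedness of the Artin–Schreier–Kummer covering of the multiplicative group
-/

set_option autoImplicit false

universe u

open CategoryTheory CategoryTheory.Limits AlgebraicGeometry LaurentPolynomial

namespace Groth.Agent.Sga4h.H918.LaurConn

variable (k : Type u) [Field k]

/-- The element `X` of the field of rational functions. -/
noncomputable def xx : (FractionRing (Polynomial k))ˣ :=
  Units.mk0 (algebraMap (Polynomial k) (FractionRing (Polynomial k)) Polynomial.X) (by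
    intro h
    exact Polynomial.X_ne_zero ((IsFractionRing.injective (Polynomial k) (FractionRing (Polynomial k)))
      (h.trans (map_zero _).symm)))

/-- Laurent polynomials as rational functions. -/
noncomputable def toFrac : k[T;T⁻¹] →+* FractionRing (Polynomial k) :=
  LaurentPolynomial.eval₂ ((algebraMap (Polynomial k) (FractionRing (Polynomial k))).comp Polynomial.C) (xx k)

theorem toFrac_toLaurent (p : Polynomial k) :
    toFrac k (Polynomial.toLaurent p) = algebraMap (Polynomial k) (FractionRing (Polynomial k)) p := by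
  rw [toFrac, LaurentPolynomial.eval₂_toLaurent]
  have h := Polynomial.hom_eval₂ p Polynomial.C (algebraMap (Polynomial k) (FractionRing (Polynomial k)))
    Polynomial.X
  rw [Polynomial.eval₂_C_X] at h
  exact h.symm

theorem toFrac_injective : Function.Injective (toFrac k) := by
  rw [injective_iff_map_eq_zero]
  intro f hf
  obtain ⟨n, f', hf'⟩ := LaurentPolynomial.exists_T_pow f
  have h1 : toFrac k (Polynomial.toLaurent f') = 0 := by rw [hf', map_mul, hf, zero_mul]
  rw [toFrac_toLaurent] at h1
  have h2 : f' = 0 := (IsFractionRing.injective (Polynomial k) (FractionRing (Polynomial k)))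
    (h1.trans (map_zero _).symm)
  rw [h2, map_zero] at hf'
  exact ((LaurentPolynomial.isUnit_T (R := k) (n : ℤ)).mul_left_eq_zero).1 hf'.symm

/-- Laurent polynomials as rational functions, `T ↦ X⁻¹`. -/
noncomputable def phi : k[T;T⁻¹] →+* FractionRing (Polynomial k) :=
  (toFrac k).comp (LaurentPolynomial.invert (R := k)).toRingEquiv.toRingHom

theorem phi_injective : Function.Injective (phi k) :=
  (toFrac_injective k).comp (LaurentPolynomial.invert (R := k)).injective

theorem phi_T : phi k (T 1) = (algebraMap (Polynomial k) (FractionRing (Polynomial k)) Polynomial.X)⁻¹ := by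
  change toFrac k (LaurentPolynomial.invert (T 1)) = _
  rw [LaurentPolynomial.invert_T, toFrac, LaurentPolynomial.eval₂_T]
  simp [xx]

/-- **The Artin–Schreier–Kummer algebra of `(T, T)` over `k[T, T⁻¹]` is a domain.** -/
theorem isDomain (q : ℕ) (hq : 2 ≤ q) (uT : k[T;T⁻¹]) (huT : uT = T 1) :
    IsDomain (LangSh.ASKAlg k[T;T⁻¹] q (T 1) (q - 1) uT) := by
  subst huT
  have hp : (Ideal.span {(Polynomial.X : Polynomial k)}).IsPrime :=
    (Ideal.span_singleton_prime Polynomial.X_ne_zero).2 Polynomial.prime_X
  refine ConnAlg.isDomain_ask (D := Polynomial k) (M := FractionRing (Polynomial k))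
    (P := Ideal.span {Polynomial.X}) (w := Polynomial.X) (Ideal.mem_span_singleton_self _) ?_ (phi k)
    (phi_injective k) (T 1) (phi_T k) q hq
  rw [Ideal.span_singleton_pow, Ideal.mem_span_singleton]
  intro h
  have h1 := Polynomial.natDegree_le_of_dvd h Polynomial.X_ne_zero
  rw [Polynomial.natDegree_X_pow, Polynomial.natDegree_X] at h1
  omega

theorem connectedSpace (q : ℕ) (hq : 2 ≤ q) (uT : k[T;T⁻¹]) (huT : uT = T 1) :
    ConnectedSpace (Spec (CommRingCat.of (LangSh.ASKAlg k[T;T⁻¹] q (T 1) (q - 1) uT))) := by
  have h1 := isDomain k q hq uT huT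
  have h2 : IsIntegral (Spec (CommRingCat.of (LangSh.ASKAlg k[T;T⁻¹] q (T 1) (q - 1) uT))) := inferInstance
  infer_instance

end Groth.Agent.Sga4h.H918.LaurConn
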