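import Groth.Agent.Sga4h.H918.AskTrace
import Groth.Agent.Sga4h.H918.LaurConn
import Groth.Agent.Sga4h.H918.CharEq
import Groth.Agent.Sga4h.H931.LocTr
import Groth.Agent.Sga4h.H931.ConstOn

/-!
# The Artin–Schreier–Kummer sheaf of `(ψ, T; χ, T)` on the multiplicative group

* `exists_theta`: it is `F_θ(T, T)` with `θ(c, d) = ψ(c)⁻¹ χ(d)⁻¹`;
* `isConstructible`: it is constructible;
* `sum_locTrace`: the sum of the local traces over the rational points.
-/

set_option autoImplicit false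

universe u

open CategoryTheory CategoryTheory.Limits AlgebraicGeometry Opposite LaurentPolynomial

namespace Groth.Agent.Sga4h.H918.AskExact

open Groth.Agent.Etbase Groth.Agent.Etcore
open Groth.Agent.Sga4h.H918.Gen Groth.Agent.Sga4h.H918.Tw Groth.Agent.Sga4h.H918.Ask
open Groth.Agent.Sga4h.H918.Lang Groth.Agent.Sga4h.H918.SpecCov Groth.Agent.Sga4h.H918.CharGen
open Groth.Agent.Sga4h.H918.AskTor Groth.Agent.Sga4h.H299.LamMod

variable {k : Type u} [Field k] [Fintype k] {K : Type u} [Field K] [Algebra k K] [IsAlgClosed K]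
  [Algebra.IsAlgebraic k K] [Fact FinFr.PullExact.{u}] {Λ : Type} [Field Λ]

section Points

omit [Fintype k] [Fact FinFr.PullExact.{u}]

theorem hom_ext {S : Type*} [CommRing S] (f g : k[T;T⁻¹] →+* S)
    (h : ∀ r, f (LaurentPolynomial.C r) = g (LaurentPolynomial.C r)) (hT : f (T 1) = g (T 1)) : f = g := by
  apply IsLocalization.ringHom_ext (Submonoid.powers (Polynomial.X : Polynomial k))
  apply Polynomial.ringHom_ext
  · intro r
    rw [RingHom.comp_apply, RingHom.comp_apply, LaurentPolynomial.algebraMap_eq_toLaurent, Polynomial.toLaurent_C]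
    exact h r
  · rw [RingHom.comp_apply, RingHom.comp_apply, LaurentPolynomial.algebraMap_eq_toLaurent, Polynomial.toLaurent_X]
    exact hT

/-- The rational point `T = a` of the multiplicative group. -/
noncomputable def pt (a : kˣ) : k[T;T⁻¹] →ₐ[k] k :=
  { LaurentPolynomial.eval₂ (RingHom.id k) a with
    commutes' := fun _ => LaurentPolynomial.eval₂_C _ _ _ }

theorem pt_T (a : kˣ) : pt a (T 1) = a := by
  change LaurentPolynomial.eval₂ (RingHom.id k) a (T 1) = a
  rw [LaurentPolynomial.eval₂_T, zpow_one]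

/-- Rational points of the multiplicative group. -/
noncomputable def ptEquiv : kˣ ≃ (k[T;T⁻¹] →ₐ[k] k) where
  toFun := pt
  invFun x := (LaurentPolynomial.isUnit_T (R := k) 1).unit.map (x : k[T;T⁻¹] →* k)
  left_inv a := by
    apply Units.ext
    exact pt_T a
  right_inv x := by
    apply AlgHom.coe_ringHom_injective
    apply hom_ext
    · intro r
      exact ((pt _).commutes r).trans (x.commutes r).symm
    · exact pt_T _

end Points

section Main

open Groth.Agent.Sga4h.H931.LocTr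

theorem trace_bot (z : (⊥ : IntermediateField k K)) (a : k) (h : (z : K) = algebraMap k K a) :
    Algebra.trace k (⊥ : IntermediateField k K) z = a := by
  have h1 : z = algebraMap k (⊥ : IntermediateField k K) a := Subtype.ext h
  rw [h1, Algebra.trace_algebraMap, IntermediateField.finrank_bot, one_smul]

theorem norm_bot (z : (⊥ : IntermediateField k K)) (a : k) (h : (z : K) = algebraMap k K a) :
    Algebra.norm k z = a := by
  have h1 : z = algebraMap k (⊥ : IntermediateField k K) a := Subtype.ext h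
  rw [h1, Algebra.norm_algebraMap, IntermediateField.finrank_bot, pow_one]

variable (ψ : AddChar k Λ) (χ : MulChar k Λ) (uT : (k[T;T⁻¹])ˣ) (huT : (uT : k[T;T⁻¹]) = T 1)
  (L : EtLam.Sheaf Λ (Spec (CommRingCat.of k[T;T⁻¹])))

include huT in
/-- The local traces at the rational points. -/
theorem locTrace_pt (hL : LangSh.IsASKSheaf K ψ (T 1) χ uT L) (x : kˣ) :
    FinFr.locTrace (K := K) (LangSh.pt (pt x)) L = ψ x * χ x := by
  rw [locTrace_of_hasTraceFun L _ hL.2 (pt x)]
  beta_reduce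
  rw [trace_bot (toBot K (pt x) (T 1)) (x : k) (by rw [coe_toBot, pt_T]),
    norm_bot (toBot K (pt x) (uT : k[T;T⁻¹])) (x : k) (by rw [coe_toBot, huT, pt_T])]

include huT in
/-- **The Artin–Schreier–Kummer sheaf of `(ψ, T; χ, T)` is `F_θ(T, T)` with `θ(c, d) = ψ(c)⁻¹ χ(d)⁻¹`.** -/
theorem exists_theta (hL : LangSh.IsASKSheaf K ψ (T 1) χ uT L) :
    ∃ θ : GG k →* (UL.{u} Λ)ˣ,
      (∀ c : k, ((θ (Multiplicative.ofAdd c, 1) : (UL.{u} Λ)ˣ) : UL.{u} Λ).down = ψ (-c)) ∧
      (∀ d : kˣ, ((θ (1, d) : (UL.{u} Λ)ˣ) : UL.{u} Λ).down = χ ((d⁻¹ : kˣ) : k)) ∧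
      Nonempty (toMod L ≅ F ((gm k[T;T⁻¹]).comp (algebraMap k k[T;T⁻¹])) θ (gm k[T;T⁻¹] (T 1))
        (gm k[T;T⁻¹] (uT : k[T;T⁻¹])) (uT.isUnit.map _)) := by
  have hc := LaurConn.connectedSpace k (Fintype.card k) Fintype.one_lt_card (uT : k[T;T⁻¹]) huT
  obtain ⟨s, θ, hs, hθ⟩ := AskTor.exists_theta (algebraMap k k[T;T⁻¹]) (T 1) (uT : k[T;T⁻¹]) uT.isUnit (toMod L)
    (nonempty_of_isConstOn (cov (Fintype.card k) (T 1) (uT : k[T;T⁻¹])) L hL.1)
  let δ : (UL.{u} Λ)ˣ →* Λˣ := Units.map (ULift.ringEquiv : UL.{u} Λ ≃+* Λ).toRingHom.toMonoidHom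
  have h1 : ∀ x : kˣ, (((δ.comp θ) (Multiplicative.ofAdd (-(x : k)), x⁻¹) : Λˣ) : Λ) = ψ x * χ x := by
    intro x
    have h2 := AskTrace.locTrace_eq (K := K) (T 1) (uT : k[T;T⁻¹]) uT.isUnit L hL.1 s θ hs hθ (pt x) x
      (by rw [huT, pt_T])
    rw [locTrace_pt ψ χ uT huT L hL x, pt_T] at h2
    exact h2.symm
  obtain ⟨h3, h4⟩ := CharEq.char_eq (δ.comp θ) ψ χ h1
  exact ⟨θ, h3, h4, AskTor.nonempty_iso_of_gen (algebraMap k k[T;T⁻¹]) (T 1) (uT : k[T;T⁻¹]) uT.isUnit (toMod L)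
    s θ hs hθ⟩

/-- The sheaf is constructible. -/
theorem isConstructible (hL : LangSh.IsASKSheaf K ψ (T 1) χ uT L) : EtLam.IsConstructible L := by
  have h1 := AskTor.etale_cov (algebraMap k k[T;T⁻¹]) (T 1) (uT : k[T;T⁻¹]) uT.isUnit
  have h2 := AskTor.surjective_cov (algebraMap k k[T;T⁻¹]) (T 1) (uT : k[T;T⁻¹]) uT.isUnit
  exact Groth.Agent.Sga4h.H931.ConstOn.isConstructible_of_isConstOn _ L hL.1

end Main

end Groth.Agent.Sga4h.H918.AskExact
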