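import Mathlib.RingTheory.Polynomial.Eisenstein.Basic
import Mathlib.RingTheory.Polynomial.GaussLemma
import Mathlib.RingTheory.AdjoinRoot
import Mathlib.FieldTheory.IsAlgClosed.AlgebraicClosure
import Mathlib.FieldTheory.IntermediateField.Adjoin.Basic
import Mathlib.RingTheory.Polynomial.IrreducibleRing

/-!
# Irreducibility of the Artin–Schreier–Kummer polynomials at a pole of the function

`D` an integrally closed domain with fraction field `M`, `P` a prime ideal of `D`, `w ∈ P`, `w ∉ P ^ 2`:
* `irreducible_kum`: `X ^ n - w` is irreducible over `M`;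
* `irreducible_kum_inv`: `X ^ n - w⁻¹` is irreducible over `M`;
* `irreducible_as_inv`: `X ^ q - X - w⁻¹` is irreducible over `M`;
* `isDomain_ask`: `R[z, y] / (z ^ q - z - g, y ^ (q - 1) - g)` is a domain if `R ⊆ M` and `g = w⁻¹`.
-/

set_option autoImplicit false

open Polynomial

namespace Groth.Agent.Sga4h.H918.ConnAlg

section Field

variable {D : Type*} [CommRing D] [IsDomain D] [IsIntegrallyClosed D] (M : Type*) [Field M] [Algebra D M]
  [IsFractionRing D M] {P : Ideal D} [hP : P.IsPrime] {w : D} (hw : w ∈ P) (hw2 : w ∉ P ^ 2)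

include hP hw hw2

omit hw hw2 in
/-- Eisenstein polynomials are irreducible over the fraction field. -/
theorem irreducible_eisenstein (f : D[X]) (hf : f.Monic) (hd : 0 < f.natDegree)
    (h : ∀ n, n < f.natDegree → f.coeff n ∈ P) (h0 : f.coeff 0 ∉ P ^ 2) :
    Irreducible (f.map (algebraMap D M)) := by
  have h1 : f.IsEisensteinAt P :=
    { leading := by
        rw [hf.leadingCoeff]
        exact fun h2 => hP.ne_top ((Ideal.eq_top_iff_one P).2 h2)
      mem := fun {n} hn => h n hn
      notMem := h0 }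
  exact (hf.irreducible_iff_irreducible_map_fraction_map).1 (h1.irreducible hP hf.isPrimitive hd)

theorem irreducible_kum (n : ℕ) (hn : n ≠ 0) : Irreducible (X ^ n - C (algebraMap D M w)) := by
  have h := irreducible_eisenstein (D := D) (P := P) M (X ^ n - C w) (monic_X_pow_sub_C w hn)
    (by rw [natDegree_X_pow_sub_C]; exact Nat.pos_of_ne_zero hn)
    (fun m hm => by
      rw [natDegree_X_pow_sub_C] at hm
      rw [coeff_sub, coeff_X_pow, if_neg hm.ne, zero_sub, coeff_C]
      split_ifs
      · exact P.neg_mem hw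
      · rw [neg_zero]; exact P.zero_mem)
    (by
      rw [coeff_sub, coeff_X_pow, if_neg (Ne.symm hn), zero_sub, coeff_C_zero]
      intro h2
      exact hw2 (by simpa using (P ^ 2).neg_mem h2))
  rwa [Polynomial.map_sub, Polynomial.map_pow, map_X, map_C] at h

omit hP hw hw2 in
/-- A monic polynomial with a root generating an extension of degree its degree is irreducible. -/
theorem irreducible_of_root {M : Type*} [Field M] {Ω : Type*} [Field Ω] [Algebra M Ω] (f : M[X]) (hf : f.Monic)
    (a : Ω) (ha : aeval a f = 0) (hd : f.natDegree ≤ (minpoly M a).natDegree) : Irreducible f := by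
  have hint : IsIntegral M a := ⟨f, hf, ha⟩
  have h1 : minpoly M a = f :=
    (eq_of_monic_of_dvd_of_natDegree_le (minpoly.monic hint) hf (minpoly.dvd M a ha) hd).symm
  rw [← h1]
  exact minpoly.irreducible hint

omit hP hw hw2 in
theorem natDegree_minpoly_inv {M : Type*} [Field M] {Ω : Type*} [Field Ω] [Algebra M Ω] (a : Ω)
    (h : IsIntegral M a) : (minpoly M a⁻¹).natDegree = (minpoly M a).natDegree := by
  have h1 : IntermediateField.adjoin M {a⁻¹} = IntermediateField.adjoin M {a} := by
    apply le_antisymm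
    · rw [IntermediateField.adjoin_simple_le_iff]
      exact inv_mem (IntermediateField.mem_adjoin_simple_self M a)
    · rw [IntermediateField.adjoin_simple_le_iff]
      have h2 := inv_mem (IntermediateField.mem_adjoin_simple_self M a⁻¹)
      rwa [inv_inv] at h2
  rw [← IntermediateField.adjoin.finrank h, ← IntermediateField.adjoin.finrank h.inv, h1]

theorem irreducible_kum_inv (n : ℕ) (hn : n ≠ 0) : Irreducible (X ^ n - C (algebraMap D M w)⁻¹) := by
  have hw0 : algebraMap D M w ≠ 0 := by
    intro h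
    have h1 : w = 0 := (IsFractionRing.injective D M) (h.trans (map_zero _).symm)
    exact hw2 (h1 ▸ zero_mem _)
  let Ω := AlgebraicClosure M
  obtain ⟨b, hb⟩ : ∃ b : Ω, b ^ n = algebraMap M Ω (algebraMap D M w) := IsAlgClosed.exists_pow_nat_eq _ (Nat.pos_of_ne_zero hn)
  have hb1 : aeval b (X ^ n - C (algebraMap D M w)) = 0 := by
    rw [map_sub, map_pow, aeval_X, aeval_C, hb, sub_self]
  have hm : (X ^ n - C (algebraMap D M w)).Monic := monic_X_pow_sub_C _ hn
  have h1 : minpoly M b = X ^ n - C (algebraMap D M w) :=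
    (minpoly.eq_of_irreducible_of_monic (irreducible_kum M hw hw2 n hn) hb1 hm).symm
  have hint : IsIntegral M b := ⟨_, hm, hb1⟩
  apply irreducible_of_root _ (monic_X_pow_sub_C _ hn) b⁻¹
  · rw [map_sub, map_pow, aeval_X, aeval_C, inv_pow, hb, map_inv₀, sub_self]
  · rw [natDegree_minpoly_inv b hint, h1, natDegree_X_pow_sub_C, natDegree_X_pow_sub_C]

theorem irreducible_as_inv (q : ℕ) (hq : 2 ≤ q) : Irreducible (X ^ q - X - C (algebraMap D M w)⁻¹) := by
  have hw0 : algebraMap D M w ≠ 0 := by
    intro h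
    have h1 : w = 0 := (IsFractionRing.injective D M) (h.trans (map_zero _).symm)
    exact hw2 (h1 ▸ zero_mem _)
  have hlt : (X + C (algebraMap D M w)⁻¹ : M[X]).natDegree < q := by
    rw [natDegree_X_add_C]; omega
  have hmon : (X ^ q - X - C (algebraMap D M w)⁻¹ : M[X]).Monic := by
    rw [sub_sub]
    apply monic_X_pow_sub
    rw [degree_X_add_C]
    exact_mod_cast (show 1 < q by omega)
  have hdeg : (X ^ q - X - C (algebraMap D M w)⁻¹ : M[X]).natDegree = q := by
    rw [sub_sub, natDegree_sub_eq_left_of_natDegree_lt, natDegree_X_pow]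
    rw [natDegree_X_pow]
    exact hlt
  let Ω := AlgebraicClosure M
  obtain ⟨a, ha⟩ : ∃ a : Ω, aeval a (X ^ q - X - C (algebraMap D M w)⁻¹ : M[X]) = 0 := by
    apply IsAlgClosed.exists_aeval_eq_zero
    rw [degree_eq_natDegree hmon.ne_zero, hdeg]
    exact_mod_cast (show q ≠ 0 by omega)
  have ha1 : a ^ q - a = (algebraMap M Ω (algebraMap D M w))⁻¹ := by
    rw [map_sub, map_sub, map_pow, aeval_X, aeval_C, sub_eq_zero, map_inv₀] at ha
    exact ha
  have hW : algebraMap M Ω (algebraMap D M w) ≠ 0 := (_root_.map_ne_zero _).2 hw0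
  have ha0 : a ≠ 0 := by
    rintro rfl
    rw [zero_pow (by omega), sub_zero] at ha1
    exact inv_ne_zero hW ha1.symm
  have hint : IsIntegral M a := ⟨_, hmon, ha⟩
  let g : D[X] := X ^ q + (C w * X ^ (q - 1) - C w)
  have hg1 : (C w * X ^ (q - 1) - C w : D[X]).degree < q := by
    refine (degree_sub_le _ _).trans_lt (max_lt ?_ ?_)
    · refine (degree_C_mul_X_pow_le _ _).trans_lt ?_
      exact_mod_cast (show q - 1 < q by omega)
    · refine degree_C_le.trans_lt ?_
      exact_mod_cast (show 0 < q by omega)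
  have hg : g.Monic := monic_X_pow_add hg1
  have hgd : g.natDegree = q := by
    have h2 : g.degree = q := by
      change (X ^ q + (C w * X ^ (q - 1) - C w) : D[X]).degree = q
      rw [degree_add_eq_left_of_degree_lt, degree_X_pow]
      rw [degree_X_pow]; exact hg1
    exact natDegree_eq_of_degree_eq_some h2
  have hirr : Irreducible (g.map (algebraMap D M)) := by
    apply irreducible_eisenstein (P := P) M g hg (by rw [hgd]; omega)
    · intro m hm
      rw [hgd] at hm
      change (X ^ q + (C w * X ^ (q - 1) - C w) : D[X]).coeff m ∈ P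
      rw [coeff_add, coeff_sub, coeff_X_pow, if_neg hm.ne, zero_add, coeff_C_mul, coeff_C]
      apply P.sub_mem
      · exact P.mul_mem_right _ hw
      · split_ifs
        · exact hw
        · exact P.zero_mem
    · change (X ^ q + (C w * X ^ (q - 1) - C w) : D[X]).coeff 0 ∉ P ^ 2
      rw [coeff_add, coeff_sub, coeff_X_pow, if_neg (by omega), zero_add, coeff_C_mul, coeff_X_pow,
        if_neg (by omega), mul_zero, zero_sub, coeff_C_zero]
      intro h2
      exact hw2 (by simpa using (P ^ 2).neg_mem h2)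
  have hroot : aeval a⁻¹ (g.map (algebraMap D M)) = 0 := by
    change aeval a⁻¹ ((X ^ q + (C w * X ^ (q - 1) - C w) : D[X]).map (algebraMap D M)) = 0
    simp only [Polynomial.map_add, Polynomial.map_sub, Polynomial.map_mul, Polynomial.map_pow, map_X, map_C,
      map_add, map_sub, map_mul, map_pow, aeval_X, aeval_C]
    have h3 : a ^ q * (algebraMap M Ω (algebraMap D M w)) = a * algebraMap M Ω (algebraMap D M w) + 1 := by
      have h4 := congrArg (fun t => t * algebraMap M Ω (algebraMap D M w)) ha1
      simp only [sub_mul, inv_mul_cancel₀ hW] at h4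
      linear_combination h4
    have h5 : a ^ q ≠ 0 := pow_ne_zero _ ha0
    rw [← mul_right_inj' h5, mul_zero]
    have h6 : a ^ q * a⁻¹ ^ q = 1 := by rw [← mul_pow, mul_inv_cancel₀ ha0, one_pow]
    have h7 : a ^ q * a⁻¹ ^ (q - 1) = a := by
      have : a ^ q = a ^ (q - 1) * a := by rw [← pow_succ]; congr 1; omega
      rw [this, mul_right_comm, ← mul_pow, mul_inv_cancel₀ ha0, one_pow, one_mul]
    linear_combination h6 + (algebraMap M Ω (algebraMap D M w)) * h7 - h3
  apply irreducible_of_root _ hmon a ha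
  rw [hdeg, ← natDegree_minpoly_inv a hint]
  have h8 : minpoly M a⁻¹ = g.map (algebraMap D M) :=
    (minpoly.eq_of_irreducible_of_monic hirr hroot (hg.map _)).symm
  rw [h8, hg.natDegree_map, hgd]

end Field

section Domain

/-- A monic polynomial over a domain which is irreducible over a larger field is prime. -/
theorem prime_of_map {R : Type*} [CommRing R] {M : Type*} [Field M] (φ : R →+* M)
    (hφ : Function.Injective φ) (f : R[X]) (hf : f.Monic) (h : Irreducible (f.map φ)) : Prime f := by
  refine ⟨?_, ?_, ?_⟩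
  · rintro rfl
    exact h.ne_zero (Polynomial.map_zero _)
  · intro hu
    exact h.not_isUnit (hu.map (mapRingHom φ))
  · intro a b hab
    have h1 : f.map φ ∣ a.map φ * b.map φ := by
      rw [← Polynomial.map_mul]
      exact Polynomial.map_dvd φ hab
    rcases h.prime.dvd_or_dvd h1 with h2 | h2
    · exact Or.inl ((Polynomial.map_dvd_map φ hφ hf).1 h2)
    · exact Or.inr ((Polynomial.map_dvd_map φ hφ hf).1 h2)

/-- The map `R[X]/f → M[X]/f` is injective for `f` monic. -/
theorem injective_adjoinRoot_map {R : Type*} [CommRing R] {M : Type*} [Field M] (φ : R →+* M)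
    (hφ : Function.Injective φ) (f : R[X]) (hf : f.Monic) (ψ : AdjoinRoot f →+* AdjoinRoot (f.map φ))
    (hψ : ∀ p : R[X], ψ (AdjoinRoot.mk f p) = AdjoinRoot.mk (f.map φ) (p.map φ)) : Function.Injective ψ := by
  rw [injective_iff_map_eq_zero]
  intro x hx
  obtain ⟨p, rfl⟩ := AdjoinRoot.mk_surjective x
  rw [hψ, AdjoinRoot.mk_eq_zero] at hx
  rw [AdjoinRoot.mk_eq_zero]
  exact (Polynomial.map_dvd_map φ hφ hf).1 hx

/-- Irreducibility is preserved under an extension of coprime degree. -/
theorem irreducible_of_coprime {M : Type*} [Field M] {M₁ : Type*} [Field M₁] [Algebra M M₁] [Module.Finite M M₁]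
    (f : M[X]) (hf : f.Monic) (h : Irreducible f) (hc : f.natDegree.Coprime (Module.finrank M M₁)) :
    Irreducible (f.map (algebraMap M M₁)) := by
  let Ω := AlgebraicClosure M₁
  obtain ⟨y, hy⟩ : ∃ y : Ω, aeval y (f.map (algebraMap M M₁)) = 0 := by
    apply IsAlgClosed.exists_aeval_eq_zero
    rw [hf.degree_map]
    exact (degree_pos_of_irreducible h).ne'
  have hint : IsIntegral M₁ y := ⟨_, hf.map _, hy⟩
  apply irreducible_of_root _ (hf.map _) y hy
  rw [hf.natDegree_map]
  let K₁ : IntermediateField M₁ Ω := IntermediateField.adjoin M₁ {y}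
  let y' : K₁ := IntermediateField.AdjoinSimple.gen M₁ y
  have hfin : Module.Finite M₁ K₁ := IntermediateField.adjoin.finiteDimensional hint
  have hfin' : Module.Finite M K₁ := Module.Finite.trans M₁ K₁
  have hr : Module.finrank M₁ K₁ = (minpoly M₁ y).natDegree := IntermediateField.adjoin.finrank hint
  have hy' : aeval y' f = 0 := by
    have : IsScalarTower M K₁ Ω := IsScalarTower.to₁₃₄ M M₁ K₁ Ω
    have h1 : algebraMap K₁ Ω (aeval y' f) = aeval y (f.map (algebraMap M M₁)) := by
      rw [aeval_map_algebraMap, ← aeval_algebraMap_apply]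
      rfl
    rw [hy] at h1
    exact (map_eq_zero_iff _ (algebraMap K₁ Ω).injective).1 h1
  have hmin : minpoly M y' = f := (minpoly.eq_of_irreducible_of_monic h hy' hf).symm
  have hint' : IsIntegral M y' := ⟨f, hf, hy'⟩
  have h2 : Module.finrank M (IntermediateField.adjoin M {y'}) = f.natDegree := by
    rw [IntermediateField.adjoin.finrank hint', hmin]
  have h3 : f.natDegree ∣ Module.finrank M M₁ * Module.finrank M₁ K₁ := by
    rw [Module.finrank_mul_finrank, ← h2]
    exact ⟨_, (Module.finrank_mul_finrank M (IntermediateField.adjoin M {y'}) K₁).symm⟩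
  have h4 : f.natDegree ∣ Module.finrank M₁ K₁ := hc.dvd_of_dvd_mul_left h3
  rw [← hr]
  exact Nat.le_of_dvd Module.finrank_pos h4

theorem map_kum {A B : Type*} [CommRing A] [CommRing B] (φ : A →+* B) (n : ℕ) (a : A) (b : B) (h : φ a = b) :
    (X ^ n - C a : A[X]).map φ = X ^ n - C b := by
  rw [Polynomial.map_sub, Polynomial.map_pow, map_X, map_C, h]

/-- **The Artin–Schreier–Kummer algebra is a domain** near a pole of `g`. -/
theorem isDomain_ask {D : Type*} [CommRing D] [IsDomain D] [IsIntegrallyClosed D] {M : Type*} [Field M]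
    [Algebra D M] [IsFractionRing D M] {P : Ideal D} [hP : P.IsPrime] {w : D} (hw : w ∈ P) (hw2 : w ∉ P ^ 2)
    {R : Type*} [CommRing R] (φ : R →+* M) (hφ : Function.Injective φ) (g : R)
    (hg : φ g = (algebraMap D M w)⁻¹) (q : ℕ) (hq : 2 ≤ q) :
    IsDomain (AdjoinRoot (X ^ (q - 1) - C (algebraMap R (AdjoinRoot (X ^ q - X - C g : R[X])) g) :
      (AdjoinRoot (X ^ q - X - C g : R[X]))[X])) := by
  have hmon : (X ^ q - X - C g : R[X]).Monic := by
    rw [sub_sub]
    apply monic_X_pow_sub
    refine (degree_add_le _ _).trans_lt (max_lt ?_ ?_)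
    · refine degree_X_le.trans_lt ?_
      exact_mod_cast (show 1 < q by omega)
    · refine degree_C_le.trans_lt ?_
      exact_mod_cast (show 0 < q by omega)
  have hmap : (X ^ q - X - C g : R[X]).map φ = X ^ q - X - C (algebraMap D M w)⁻¹ := by
    rw [Polynomial.map_sub, Polynomial.map_sub, Polynomial.map_pow, map_X, map_C, hg]
  have hirr : Irreducible ((X ^ q - X - C g : R[X]).map φ) := by
    rw [hmap]; exact irreducible_as_inv M hw hw2 q hq
  have : Fact (Irreducible ((X ^ q - X - C g : R[X]).map φ)) := ⟨hirr⟩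
  have hdeg : ((X ^ q - X - C g : R[X]).map φ).natDegree = q := by
    rw [hmap, natDegree_sub_C, natDegree_sub_eq_left_of_natDegree_lt, natDegree_X_pow]
    rw [natDegree_X_pow, natDegree_X]
    omega
  let M₁ : Type _ := AdjoinRoot ((X ^ q - X - C g : R[X]).map φ)
  let φ₁ : AdjoinRoot (X ^ q - X - C g : R[X]) →+* M₁ :=
    AdjoinRoot.lift ((AdjoinRoot.of _).comp φ) (AdjoinRoot.root _) (by
      rw [← eval₂_map]
      exact AdjoinRoot.eval₂_root _)
  have hφ₁ : ∀ p : R[X], φ₁ (AdjoinRoot.mk _ p) = AdjoinRoot.mk _ (p.map φ) := by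
    intro p
    change AdjoinRoot.lift _ _ _ (AdjoinRoot.mk _ p) = _
    rw [AdjoinRoot.lift_mk, ← eval₂_map]
    exact AdjoinRoot.aeval_eq (p.map φ)
  have hinj : Function.Injective φ₁ := injective_adjoinRoot_map φ hφ _ hmon φ₁ hφ₁
  have hfin : Module.Finite M M₁ := (AdjoinRoot.powerBasis (hmon.map φ).ne_zero).finite
  have hrank : Module.finrank M M₁ = q := by
    rw [(AdjoinRoot.powerBasis (hmon.map φ).ne_zero).finrank, AdjoinRoot.powerBasis_dim, hdeg]
  have hk : Irreducible (X ^ (q - 1) - C (algebraMap D M w)⁻¹ : M[X]) :=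
    irreducible_kum_inv M hw hw2 (q - 1) (by omega)
  have hk1 : Irreducible ((X ^ (q - 1) - C (algebraMap D M w)⁻¹ : M[X]).map (algebraMap M M₁)) := by
    apply irreducible_of_coprime _ (monic_X_pow_sub_C _ (by omega)) hk
    rw [natDegree_X_pow_sub_C, hrank]
    have h1 : (q - 1).Coprime (q - 1 + 1) := Nat.coprime_self_add_right.2 (Nat.coprime_one_right _)
    rwa [Nat.sub_add_cancel (by omega)] at h1
  have hprime : Prime (X ^ (q - 1) - C (algebraMap R (AdjoinRoot (X ^ q - X - C g : R[X])) g) :
      (AdjoinRoot (X ^ q - X - C g : R[X]))[X]) := by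
    apply prime_of_map φ₁ hinj _ (monic_X_pow_sub_C _ (by omega))
    have h2 : (X ^ (q - 1) - C (algebraMap R (AdjoinRoot (X ^ q - X - C g : R[X])) g) :
        (AdjoinRoot (X ^ q - X - C g : R[X]))[X]).map φ₁ =
        (X ^ (q - 1) - C (algebraMap D M w)⁻¹ : M[X]).map (algebraMap M M₁) := by
      have h0 : φ₁ (algebraMap R (AdjoinRoot (X ^ q - X - C g : R[X])) g) =
          algebraMap M M₁ (algebraMap D M w)⁻¹ := by
        rw [← hg]
        exact (hφ₁ (C g)).trans (congrArg (AdjoinRoot.mk _) (map_C φ))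
      exact (map_kum φ₁ (q - 1) _ _ h0).trans (map_kum (algebraMap M M₁) (q - 1) _ _ rfl).symm
    rw [h2]
    exact hk1
  exact AdjoinRoot.isDomain_of_prime hprime

/-- **The Kummer algebra is a domain** near a zero of `g`. -/
theorem isDomain_kum {D : Type*} [CommRing D] [IsDomain D] [IsIntegrallyClosed D] {M : Type*} [Field M]
    [Algebra D M] [IsFractionRing D M] {P : Ideal D} [hP : P.IsPrime] {w : D} (hw : w ∈ P) (hw2 : w ∉ P ^ 2)
    {R : Type*} [CommRing R] (φ : R →+* M) (hφ : Function.Injective φ) (g : R)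
    (hg : φ g = algebraMap D M w) (n : ℕ) (hn : n ≠ 0) :
    IsDomain (AdjoinRoot (X ^ n - C g : R[X])) := by
  apply AdjoinRoot.isDomain_of_prime
  apply prime_of_map φ hφ _ (monic_X_pow_sub_C _ hn)
  rw [Polynomial.map_sub, Polynomial.map_pow, map_X, map_C, hg]
  exact irreducible_kum M hw hw2 n hn

end Domain

end Groth.Agent.Sga4h.H918.ConnAlg
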