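import Groth.Agent.Sga4h.H917.Eig

/-!
# The trace of the local Frobenius of a rank one sheaf

`locTrace_eq`: let `L` be a sheaf of `Λ`-modules on `X₀`, constant of rank one over `π : T → X₀` with generator
`one e ∈ L(T)`, `x` a rational point of `X₀` and `τ` a geometric point of `T` over `x`.  If `τ` composed with the
inverse of the arithmetic Frobenius is `g ∘ τ` with `g : T ⟶ T` and `g^* (one e) = c (one e)` then the trace of the
geometric Frobenius on the stalk at `x` is `c`.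
-/

set_option autoImplicit false
universe u
open CategoryTheory CategoryTheory.Limits AlgebraicGeometry Opposite

namespace Groth.Agent.Sga4h.H918.LocTr

open Groth.Agent.Etcore.LocSec Groth.Agent.Etcore.LocEt Groth.Agent.Etcore.PullCoh
open Groth.Agent.Sga4h.H917.GSec Groth.Agent.Sga4h.H917.Desc Groth.Agent.Sga4h.H917.LocTr
open Groth.Agent.Sga4h.H917.TrH0 Groth.Agent.Sga4h.H917.GalH0 Groth.Agent.Sga4h.H917.EigAbs

variable {k : Type u} [Field k] {K : Type u} [Field K] [Algebra k K]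

instance connected_ext_one : ConnectedSpace (FinFr.ext K (𝟙 (Spec (CommRingCat.of k))) : Scheme.{u}) := by
  have h1 : IsIso (pullback.snd (𝟙 (Spec (CommRingCat.of k))) (FinFr.specι k K)) := inferInstance
  exact (Scheme.homeoOfIso (asIso (pullback.snd (𝟙 (Spec (CommRingCat.of k)))
    (FinFr.specι k K)))).symm.surjective.connectedSpace
    (Scheme.homeoOfIso (asIso (pullback.snd (𝟙 (Spec (CommRingCat.of k)))
    (FinFr.specι k K)))).symm.continuous

variable {Λ : Type} [Field Λ] {X₀ : Scheme.{u}}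

/-- The trace of the Galois action on the fibre at a point is the eigenvalue on the generator over the covering. -/
theorem trace_galLin [Fact FinFr.PullExact.{u}] (L : EtLam.Sheaf Λ X₀) {T : Scheme.{u}} (π : T ⟶ X₀)
    (e : (EtCoh.pull π).obj L.carrier ≅ EtCoh.const T Λ)
    (he : ∀ r : Λ, (EtCoh.pull π).map (L.act r) ≫ e.hom = e.hom ≫ FinFr.constSMul T r)
    (x : Spec (CommRingCat.of k) ⟶ X₀) (τ : FinFr.ext K (𝟙 (Spec (CommRingCat.of k))) ⟶ T)
    (hτ : τ ≫ π = FinFr.extπ K (𝟙 _) ≫ x) (g : T ⟶ T) (hgπ : g ≫ π = π) (c : Λ)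
    (hc : IsEig L.act e g hgπ c) (σ : K ≃ₐ[k] K)
    (hσ : FinFr.galAct (𝟙 (Spec (CommRingCat.of k))) σ ≫ τ = τ ≫ g) :
    LinearMap.trace Λ _ (FinFr.galLin (𝟙 (Spec (CommRingCat.of k))) σ (EtLam.pullback x L) 0) = c := by
  have hpe := pe_lin π e (B := L.act) he τ hτ
  refine Groth.Agent.Sga4h.H917.TrH0.trace_eq (ce x (FinFr.extπ K (𝟙 (Spec (CommRingCat.of k)))) rfl (pe π e τ hτ))
    (ce_lin (B := L.act) x (FinFr.extπ K (𝟙 (Spec (CommRingCat.of k)))) rfl _ hpe) _ c ?_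
  intro y hy
  rw [h0_galLin, hy]
  exact isEig_point hτ (FinFr.galAct_fst (𝟙 _) σ) hσ hc

/-- **The trace of the local Frobenius.** -/
theorem locTrace_eq [Fact FinFr.PullExact.{u}] [Fintype k] [Algebra.IsAlgebraic k K] (L : EtLam.Sheaf Λ X₀)
    {T : Scheme.{u}} (π : T ⟶ X₀) (e : (EtCoh.pull π).obj L.carrier ≅ EtCoh.const T Λ)
    (he : ∀ r : Λ, (EtCoh.pull π).map (L.act r) ≫ e.hom = e.hom ≫ FinFr.constSMul T r)
    (x : Spec (CommRingCat.of k) ⟶ X₀) (τ : FinFr.ext K (𝟙 (Spec (CommRingCat.of k))) ⟶ T)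
    (hτ : τ ≫ π = FinFr.extπ K (𝟙 _) ≫ x) (g : T ⟶ T) (hgπ : g ≫ π = π) (c : Λ)
    (hc : IsEig L.act e g hgπ c)
    (hσ : FinFr.galAct (𝟙 (Spec (CommRingCat.of k))) (FinFr.arith k K).symm ≫ τ = τ ≫ g) :
    FinFr.locTrace (K := K) x L = c :=
  trace_galLin L π e he x τ hτ g hgπ c hc _ hσ

end Groth.Agent.Sga4h.H918.LocTr
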