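import Mathlib.FieldTheory.Finite.Basic
import Mathlib.AlgebraicGeometry.Scheme
import Mathlib.AlgebraicGeometry.Restrict

/-!
# Functions `w` with `w ^ q = w` are locally constant with values in `k`
-/

set_option autoImplicit false

universe u

open CategoryTheory AlgebraicGeometry Polynomial Opposite

namespace Groth.Agent.Sga4h.H918.FrobFix

variable {k : Type*} [Field k] [Fintype k]

section Alg

variable {R : Type*} [CommRing R] (ρ : k →+* R)

include ρ in
theorem add_pow_card (a b : R) : (a + b) ^ Fintype.card k = a ^ Fintype.card k + b ^ Fintype.card k :=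
  letI : Algebra k R := ρ.toAlgebra
  map_add (FiniteField.frobeniusAlgHom k R) a b

include ρ in
theorem sub_pow_card (a b : R) : (a - b) ^ Fintype.card k = a ^ Fintype.card k - b ^ Fintype.card k :=
  letI : Algebra k R := ρ.toAlgebra
  map_sub (FiniteField.frobeniusAlgHom k R) a b

theorem prod_sub (w : R) : ∏ c : k, (w - ρ c) = w ^ Fintype.card k - w := by
  classical
  have h1 : (X ^ Fintype.card k - X : k[X]) = ∏ c : k, (X - C c) := by
    have h2 : (X ^ Fintype.card k - X : k[X]).Monic := by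
      apply Polynomial.monic_X_pow_sub
      rw [degree_X]
      exact_mod_cast Fintype.one_lt_card (α := k)
    have h3 := Polynomial.prod_multiset_X_sub_C_of_monic_of_roots_card_eq h2 (by
      rw [FiniteField.roots_X_pow_card_sub_X, FiniteField.X_pow_card_sub_X_natDegree_eq k Fintype.one_lt_card]
      rfl)
    rw [FiniteField.roots_X_pow_card_sub_X] at h3
    rw [← h3]
    rfl
  have h4 := congrArg (eval₂ ρ w) h1
  rw [eval₂_sub, eval₂_X_pow, eval₂_X, eval₂_finsetProd] at h4
  simp only [eval₂_sub, eval₂_X, eval₂_C] at h4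
  exact h4.symm

/-- In a local ring the solutions of `w ^ q = w` are the elements of `k`. -/
theorem exists_eq_of_local [IsLocalRing R] (w : R) (hw : w ^ Fintype.card k = w) : ∃ c : k, w = ρ c := by
  classical
  have h1 : ∏ c : k, (w - ρ c) = 0 := by rw [prod_sub, hw, sub_self]
  by_contra hne
  push Not at hne
  obtain ⟨c, hc⟩ : ∃ c : k, ¬ IsUnit (w - ρ c) := by
    by_contra hall
    push Not at hall
    have h2 : IsUnit (∏ c : k, (w - ρ c)) := IsUnit.prod_univ_iff.2 hall
    rw [h1] at h2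
    exact not_isUnit_zero h2
  have h2 : ∀ d ∈ Finset.univ.erase c, IsUnit (w - ρ d) := by
    intro d hd
    have h3 : IsUnit (ρ (c - d)) := (isUnit_iff_ne_zero.2 (sub_ne_zero.2 (Finset.ne_of_mem_erase hd).symm)).map ρ
    have h4 : w - ρ d = (w - ρ c) + ρ (c - d) := by rw [map_sub]; ring
    by_contra h5
    have h6 : ¬ IsUnit ((w - ρ d) - (w - ρ c)) := by
      intro h7
      exact (IsLocalRing.nonunits_add (a := w - ρ d) (b := -(w - ρ c)) h5 (by
        rw [mem_nonunits_iff, IsUnit.neg_iff]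
        exact hc)) (by rwa [← sub_eq_add_neg])
    apply h6
    rw [h4]
    ring_nf
    exact h3
  have h3 : IsUnit (∏ d ∈ Finset.univ.erase c, (w - ρ d)) := IsUnit.prod_iff.2 h2
  rw [← Finset.mul_prod_erase _ _ (Finset.mem_univ c)] at h1
  exact hne c (sub_eq_zero.1 ((h3.mul_left_eq_zero).1 h1))

end Alg

/-- On a scheme, a function `w` with `w ^ q = w` is locally an element of `k`. -/
theorem exists_open {W : Scheme.{u}} (ρ : k →+* Γ(W, ⊤)) (w : Γ(W, ⊤)) (hw : w ^ Fintype.card k = w) (x : W) :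
    ∃ (c : k) (U : W.Opens) (_ : x ∈ U), U.ι.appTop w = U.ι.appTop (ρ c) := by
  obtain ⟨c, hc⟩ := exists_eq_of_local ((W.presheaf.germ ⊤ x trivial).hom.comp ρ) (W.presheaf.germ ⊤ x trivial w)
    (by rw [← map_pow, hw])
  obtain ⟨U, hxU, i₁, i₂, h⟩ := TopCat.Presheaf.germ_eq W.presheaf (U := ⊤) (V := ⊤) x trivial trivial w (ρ c) hc
  refine ⟨c, U, hxU, ?_⟩
  have h1 : i₁ = i₂ := Subsingleton.elim _ _
  subst h1
  let U' : W.Opens := U
  let e : U'.ι ''ᵁ ⊤ ⟶ U' := homOfLE (by simp)
  have h2 : ∀ s : Γ(W, ⊤), U'.ι.appTop s = W.presheaf.map e.op (W.presheaf.map (show U' ⟶ ⊤ from i₁).op s) := by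
    intro s
    rw [Scheme.Opens.ι_appTop, ← CommRingCat.comp_apply, ← Functor.map_comp]
    rfl
  exact (h2 w).trans ((congrArg _ h).trans (h2 (ρ c)).symm)

end Groth.Agent.Sga4h.H918.FrobFix
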