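import Groth.Agent.Sga4h.H918.Tw
import Groth.Agent.Sga4h.BidTens

/-!
# Tensor products of sheaves of modules with a free generator

* `tmul s s'`: the tensor product of two sections;
* `IsGen.tmul`: the tensor product of two free generators is a free generator;
* `HasGen.tens`: multiplicativity of the characters.
-/

set_option autoImplicit false
universe u

open CategoryTheory CategoryTheory.Limits AlgebraicGeometry Opposite TensorProduct

namespace Groth.Agent.Sga4h.H918.Tens

open Groth.Agent.Etbase Groth.Agent.Etcore Groth.Agent.EtpbcA Groth.Agent.Etcore.LVan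
open Groth.Agent.Sga4h.H918.Gen Groth.Agent.Sga4h.H918.Tw

variable {Λ : Type (u + 1)} [CommRing Λ] {X : Scheme.{u}}

/-- The tensor product `L ⊗_Λ L'`. -/
noncomputable abbrev tens (L L' : EtModW.Mod Λ X) : EtModW.Mod Λ X := ((EtModD.tensorBi Λ X).obj L).obj L'

/-- The presheaf tensor product. -/
noncomputable abbrev preT (L L' : EtModW.Mod Λ X) : ModDTensor.PMod Λ X :=
  MonoidalCategoryStruct.tensorObj ((ModDTensor.inc Λ X).obj L : ModDTensor.PMod Λ X) ((ModDTensor.inc Λ X).obj L')

variable {L L' : EtModW.Mod Λ X}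

/-- The canonical map `L(U) ⊗ L'(U) → (L ⊗ L')(U)`. -/
noncomputable def toT (U : X.Etale) :
    EtModW.sect Λ L U ⊗[Λ] EtModW.sect Λ L' U →ₗ[Λ] EtModW.sect Λ (tens L L') U :=
  (BidTens.toT L L' U).hom

/-- Restriction on presheaf tensors. -/
noncomputable def resT {U V : X.Etale} (g : V ⟶ U) :
    EtModW.sect Λ L U ⊗[Λ] EtModW.sect Λ L' U →ₗ[Λ] EtModW.sect Λ L V ⊗[Λ] EtModW.sect Λ L' V :=
  TensorProduct.map (res L g) (res L' g)

theorem resT_comp {U V W : X.Etale} (c : V ⟶ U) (d : W ⟶ V) (x : EtModW.sect Λ L U ⊗[Λ] EtModW.sect Λ L' U) :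
    resT (d ≫ c) x = resT d (resT c x) := by
  have h : resT (L := L) (L' := L') (d ≫ c) = (resT d).comp (resT c) := by
    apply TensorProduct.ext'
    intro a b
    change res L (d ≫ c) a ⊗ₜ[Λ] res L' (d ≫ c) b = res L d (res L c a) ⊗ₜ[Λ] res L' d (res L' c b)
    rw [res_comp, res_comp]
  rw [h]
  rfl

theorem res_toT {U V : X.Etale} (g : V ⟶ U) (x : EtModW.sect Λ L U ⊗[Λ] EtModW.sect Λ L' U) :
    res (tens L L') g (toT U x) = toT V (resT g x) := by
  have h := (toSheafify X.smallEtaleTopology (preT L L')).naturality g.op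
  exact (congrArg (fun q => q.hom x) h).symm

/-- Every section of `L ⊗ L'` is locally the image of a presheaf tensor. -/
theorem exists_toT {U : X.Etale} (t : EtModW.sect Λ (tens L L') U) (v : U.left) :
    ∃ (V : X.Etale) (c : V ⟶ U) (v' : V.left) (x : EtModW.sect Λ L V ⊗[Λ] EtModW.sect Λ L' V),
      c.left v' = v ∧ res (tens L L') c t = toT V x := by
  have h := Presheaf.imageSieve_mem X.smallEtaleTopology (toSheafify X.smallEtaleTopology (preT L L')) (U := op U) t
  rw [EtSite.mem_iff] at h
  obtain ⟨V, c, v', ⟨x, hx⟩, hv⟩ := h v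
  exact ⟨V, c, v', x, hv, hx.symm⟩

/-- A presheaf tensor with vanishing image vanishes locally. -/
theorem exists_resT_eq_zero {U : X.Etale} (x : EtModW.sect Λ L U ⊗[Λ] EtModW.sect Λ L' U) (v : U.left)
    (hx : Van (tens L L') (toT U x) v) :
    ∃ (V : X.Etale) (c : V ⟶ U) (v' : V.left), c.left v' = v ∧ resT c x = 0 := by
  obtain ⟨V, c, v', hv, h⟩ := hx
  rw [res_toT] at h
  have h2 := Presheaf.equalizerSieve_mem X.smallEtaleTopology (toSheafify X.smallEtaleTopology (preT L L')) (X := op V)
    (resT c x) (0 : EtModW.sect Λ L V ⊗[Λ] EtModW.sect Λ L' V) (h.trans (map_zero (toT V)).symm)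
  rw [EtSite.mem_iff] at h2
  obtain ⟨W, d, w, hd, hw⟩ := h2 v'
  refine ⟨W, d ≫ c, w, ?_, ?_⟩
  · change c.left (d.left w) = v
    rw [hw, hv]
  · have h3 : resT (L := L) (L' := L') d (resT c x) = 0 := by
      have h4 : resT (L := L) (L' := L') d (resT c x) = resT d 0 := hd
      rw [h4, map_zero]
    rw [resT_comp, h3]

/-- The tensor product of two sections. -/
noncomputable def tmul {U : X.Etale} (s : EtModW.sect Λ L U) (s' : EtModW.sect Λ L' U) :
    EtModW.sect Λ (tens L L') U := toT U (s ⊗ₜ[Λ] s')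

theorem res_tmul {U V : X.Etale} (g : V ⟶ U) (s : EtModW.sect Λ L U) (s' : EtModW.sect Λ L' U) :
    res (tens L L') g (tmul s s') = tmul (res L g s) (res L' g s') := by
  unfold tmul
  rw [res_toT]
  rfl

theorem tmul_smul_smul {U : X.Etale} (r r' : Λ) (s : EtModW.sect Λ L U) (s' : EtModW.sect Λ L' U) :
    tmul (r • s) (r' • s') = (r * r') • tmul s s' := by
  unfold tmul
  rw [TensorProduct.smul_tmul_smul, map_smul]

section Val

variable {T : X.Etale} {s : EtModW.sect Λ L T} (hs : IsGen L s)

include hs in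
theorem exists_val {V : X.Etale} (g : V ⟶ T) (v : V.left) (t : EtModW.sect Λ L V) :
    ∃ r : Λ, Van L (r • res L g s - t) v := by
  obtain ⟨r, hr⟩ := (hs (g.left v)).2 V g v rfl t
  refine ⟨r, ?_⟩
  rw [LinearMap.toSpanSingleton_apply, map_smul] at hr
  exact hr.symm

include hs in
theorem val_unique {V : X.Etale} (g : V ⟶ T) (v : V.left) (t : EtModW.sect Λ L V) {r r' : Λ}
    (h : Van L (r • res L g s - t) v) (h' : Van L (r' • res L g s - t) v) : r = r' := by
  have h1 := h.trans h'.symm
  rw [← sub_smul] at h1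
  rw [← sub_eq_zero]
  apply (hs (g.left v)).1
  apply Van.of_res g v
  rw [LinearMap.toSpanSingleton_apply, map_smul]
  exact h1

/-- The value of a section at a point with respect to a free generator. -/
noncomputable def val {V : X.Etale} (g : V ⟶ T) (v : V.left) : EtModW.sect Λ L V →ₗ[Λ] Λ where
  toFun t := (exists_val hs g v t).choose
  map_add' t t' := by
    apply val_unique hs g v (t + t') (exists_val hs g v _).choose_spec
    have h := (exists_val hs g v t).choose_spec.add (exists_val hs g v t').choose_spec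
    rwa [sub_add_sub_comm, ← add_smul] at h
  map_smul' c t := by
    apply val_unique hs g v (c • t) (exists_val hs g v _).choose_spec
    have h := (exists_val hs g v t).choose_spec.smul c
    rwa [smul_sub, smul_smul] at h

theorem val_spec {V : X.Etale} (g : V ⟶ T) (v : V.left) (t : EtModW.sect Λ L V) :
    Van L (val hs g v t • res L g s - t) v := (exists_val hs g v t).choose_spec

theorem val_gen {V : X.Etale} (g : V ⟶ T) (v : V.left) : val hs g v (res L g s) = 1 := by
  apply val_unique hs g v _ (val_spec hs g v _)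
  rw [one_smul, sub_self]
  exact Van.zero _

end Val

/-- The tensor product of two free generators is a free generator. -/
theorem IsGen.tmul {T : X.Etale} {s : EtModW.sect Λ L T} {s' : EtModW.sect Λ L' T}
    (hs : IsGen L s) (hs' : IsGen L' s') : IsGen (tens L L') (Tens.tmul s s') := by
  intro y
  constructor
  · intro r hr
    rw [LinearMap.toSpanSingleton_apply] at hr
    have h1 : r • Tens.tmul s s' = toT T (r • (s ⊗ₜ[Λ] s')) := (map_smul (toT T) r _).symm
    rw [h1] at hr
    obtain ⟨V, c, v, hv, h2⟩ := exists_resT_eq_zero _ y hr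
    have h3 : r • (res L c s ⊗ₜ[Λ] res L' c s') = 0 := by
      rw [← h2, map_smul]
      rfl
    have h4 := congrArg (fun q => TensorProduct.lid Λ Λ (TensorProduct.map (val hs c v) (val hs' c v) q)) h3
    simp only [map_smul, TensorProduct.map_tmul, val_gen, map_zero, TensorProduct.lid_tmul] at h4
    simpa using h4
  · intro V g v hv t
    obtain ⟨W, c, w, x, hw, hx⟩ := exists_toT t v
    suffices h : ∃ r : Λ, Van (tens L L') (r • Tens.tmul (res L (c ≫ g) s) (res L' (c ≫ g) s') - toT W x) w by
      obtain ⟨r, hr⟩ := h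
      refine ⟨r, ?_⟩
      rw [← hw]
      apply Van.of_res c w
      rw [map_sub, LinearMap.toSpanSingleton_apply, ← res_comp, map_smul, res_tmul, hx]
      exact hr.symm
    clear hx
    induction x using TensorProduct.induction_on with
    | zero => exact ⟨0, by rw [zero_smul, map_zero, sub_zero]; exact Van.zero _⟩
    | tmul a b =>
      refine ⟨val hs (c ≫ g) w a * val hs' (c ≫ g) w b, ?_⟩
      obtain ⟨W', d, w', h1, h2, h3⟩ : ∃ (W' : X.Etale) (d : W' ⟶ W) (w' : W'.left), d.left w' = w ∧
          res L d (val hs (c ≫ g) w a • res L (c ≫ g) s - a) = 0 ∧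
          res L' d (val hs' (c ≫ g) w b • res L' (c ≫ g) s' - b) = 0 := by
        obtain ⟨W₁, d₁, w₁, h1, h2⟩ := val_spec hs (c ≫ g) w a
        obtain ⟨W₂, d₂, w₂, k1, k2⟩ := val_spec hs' (c ≫ g) w b
        obtain ⟨P, p, q, z, hpq, hz1, hz2⟩ := EtSite.exists_pullback d₁ d₂ w₁ w₂ (h1.trans k1.symm)
        refine ⟨P, p ≫ d₁, z, ?_, ?_, ?_⟩
        · change d₁.left (p.left z) = w
          rw [hz1, h1]
        · rw [res_comp, h2, map_zero]
        · rw [hpq, res_comp, k2, map_zero]
      refine ⟨W', d, w', h1, ?_⟩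
      rw [map_sub, sub_eq_zero] at h2 h3
      rw [map_sub, sub_eq_zero, ← tmul_smul_smul, res_tmul, h2, h3, ← res_tmul]
      rfl
    | add a b ha hb =>
      obtain ⟨r, hr⟩ := ha
      obtain ⟨r', hr'⟩ := hb
      refine ⟨r + r', ?_⟩
      have := hr.add hr'
      rwa [sub_add_sub_comm, ← add_smul, ← map_add] at this

/-- The characters multiply. -/
theorem HasGen.tens {T : X.Etale} {G : Type*} {act : G → (T ⟶ T)} {θ θ' : G → Λ}
    (h : HasGen L T act θ) (h' : HasGen L' T act θ') :
    HasGen (tens L L') T act (fun g => θ g * θ' g) := by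
  obtain ⟨s, hs, hs2⟩ := h
  obtain ⟨s', hs', hs2'⟩ := h'
  refine ⟨Tens.tmul s s', IsGen.tmul hs hs', fun g => ?_⟩
  rw [res_tmul, hs2, hs2', tmul_smul_smul]

end Groth.Agent.Sga4h.H918.Tens
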