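import Groth.Agent.Sga4h.H918.Root
import Groth.Agent.Sga4h.H918.FrobFix
import Groth.Agent.Sga4h.H918.Tens

/-!
# The Artin–Schreier–Kummer torsor

For a scheme `X` over a finite field `k` with `q` elements and functions `f`, `u` (`u` invertible):
the étale covering `z ^ q - z = f`, `y ^ (q - 1) = u` with its action of `k × k^*`.
-/

set_option autoImplicit false

universe u

open CategoryTheory CategoryTheory.Limits AlgebraicGeometry Polynomial Opposite

namespace Groth.Agent.Sga4h.H918.Ask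

open Groth.Agent.Etbase Groth.Agent.Etcore Groth.Agent.EtpbcA Groth.Agent.Etcore.LVan
open Groth.Agent.Sga4h.H918.Gen Groth.Agent.Sga4h.H918.Tw Groth.Agent.Sga4h.H918.Root

/-- `π : T ⟶ X` is the covering `z ^ q - z = f`, `y ^ (q - 1) = u`. -/
structure IsASK {T X : Scheme.{u}} (q : ℕ) (π : T ⟶ X) (f u : Γ(X, ⊤)) (z y : Γ(T, ⊤)) : Prop where
  eq_z : z ^ q - z = π.appTop.hom f
  eq_y : y ^ (q - 1) = π.appTop.hom u
  exists_lift : ∀ {Z : Scheme.{u}} (h : Z ⟶ X) (z' y' : Γ(Z, ⊤)), z' ^ q - z' = h.appTop.hom f →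
    y' ^ (q - 1) = h.appTop.hom u → ∃ a : Z ⟶ T, a ≫ π = h ∧ a.appTop.hom z = z' ∧ a.appTop.hom y = y'
  uniq : ∀ {Z : Scheme.{u}} (a b : Z ⟶ T), a ≫ π = b ≫ π → a.appTop.hom z = b.appTop.hom z →
    a.appTop.hom y = b.appTop.hom y → a = b

/-- `X ^ q - X - f`. -/
noncomputable abbrev PA {R : Type*} [CommRing R] (q : ℕ) (f : R) : R[X] := X ^ q - X - C f

/-- `X ^ (q - 1) - u`. -/
noncomputable abbrev PB {R : Type*} [CommRing R] (q : ℕ) (u : R) : R[X] := X ^ (q - 1) - C u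

theorem eval_PA {R S : Type*} [CommRing R] [CommRing S] (q : ℕ) (f : R) (φ : R →+* S) (a : S) :
    (PA q f).eval₂ φ a = 0 ↔ a ^ q - a = φ f := by
  rw [eval₂_sub, eval₂_sub, eval₂_X_pow, eval₂_X, eval₂_C, sub_eq_zero]

theorem eval_PB {R S : Type*} [CommRing R] [CommRing S] (q : ℕ) (f : R) (φ : R →+* S) (a : S) :
    (PB q f).eval₂ φ a = 0 ↔ a ^ (q - 1) = φ f := by
  rw [eval₂_sub, eval₂_X_pow, eval₂_C, sub_eq_zero]

/-- Composition of two root coverings. -/
theorem isASK_comp {T₁ T₂ X : Scheme.{u}} {q : ℕ} {π₁ : T₁ ⟶ X} {π₂ : T₂ ⟶ T₁} {f u : Γ(X, ⊤)}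
    {z : Γ(T₁, ⊤)} {y : Γ(T₂, ⊤)} (h₁ : IsRoot π₁ (PA q f) z) (h₂ : IsRoot π₂ (PB q (π₁.appTop.hom u)) y) :
    IsASK q (π₂ ≫ π₁) f u (π₂.appTop.hom z) y where
  eq_z := by
    have h := (eval_PA _ _ _ _).1 h₁.eval_eq
    rw [← map_pow, ← map_sub, h]
    rfl
  eq_y := (eval_PB _ _ π₂.appTop.hom _).1 h₂.eval_eq
  exists_lift {Z} h z' y' hz hy := by
    obtain ⟨a, ha1, ha2⟩ := h₁.exists_lift h z' ((eval_PA _ _ _ _).2 hz)
    obtain ⟨b, hb1, hb2⟩ := h₂.exists_lift a y' ((eval_PB _ _ _ _).2 (by rw [hy, ← ha1]; rfl))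
    refine ⟨b, by rw [← Category.assoc, hb1, ha1], ?_, hb2⟩
    rw [← ha2, ← hb1]
    rfl
  uniq {Z} a b h hz hy := by
    apply h₂.uniq a b _ hy
    apply h₁.uniq _ _ _ _
    · rw [Category.assoc, Category.assoc, h]
    · exact hz

/-- Base change of the covering. -/
theorem IsASK.baseChange {T X Y T' : Scheme.{u}} {q : ℕ} {π : T ⟶ X} {f u : Γ(X, ⊤)} {z y : Γ(T, ⊤)}
    (h : IsASK q π f u z y) (g : Y ⟶ X) {g' : T' ⟶ T} {π' : T' ⟶ Y} (sq : IsPullback g' π' π g) :
    IsASK q π' (g.appTop.hom f) (g.appTop.hom u) (g'.appTop.hom z) (g'.appTop.hom y) where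
  eq_z := by
    rw [← map_pow, ← map_sub, h.eq_z]
    change (g' ≫ π).appTop.hom f = (π' ≫ g).appTop.hom f
    rw [sq.w]
  eq_y := by
    rw [← map_pow, h.eq_y]
    change (g' ≫ π).appTop.hom u = (π' ≫ g).appTop.hom u
    rw [sq.w]
  exists_lift {Z} k z' y' hz hy := by
    obtain ⟨a, ha1, ha2, ha3⟩ := h.exists_lift (k ≫ g) z' y' hz hy
    refine ⟨sq.lift a k ha1, sq.lift_snd _ _ _, ?_, ?_⟩
    · rw [← ha2]
      change (sq.lift a k ha1 ≫ g').appTop.hom z = _
      rw [sq.lift_fst]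
    · rw [← ha3]
      change (sq.lift a k ha1 ≫ g').appTop.hom y = _
      rw [sq.lift_fst]
  uniq {Z} a b hab hz hy := by
    apply sq.hom_ext _ hab
    apply h.uniq _ _ _ hz hy
    rw [Category.assoc, Category.assoc, sq.w, ← Category.assoc, hab, Category.assoc]

section

variable {k : Type*} [Field k] [Fintype k]

theorem monic_PA {R : Type*} [CommRing R] (f : R) : (PA (Fintype.card k) f).Monic := by
  rw [PA, sub_sub]
  apply Polynomial.monic_X_pow_sub
  refine (degree_add_le _ _).trans_lt (max_lt ?_ ?_)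
  · refine degree_X_le.trans_lt ?_
    exact_mod_cast Fintype.one_lt_card (α := k)
  · refine degree_C_le.trans_lt ?_
    exact_mod_cast Fintype.card_pos (α := k)

theorem monic_PB {R : Type*} [CommRing R] (u : R) : (PB (Fintype.card k) u).Monic :=
  monic_X_pow_sub_C u (Nat.sub_ne_zero_of_lt Fintype.one_lt_card)

theorem natDegree_PA {R : Type*} [CommRing R] [Nontrivial R] (f : R) : (PA (Fintype.card k) f).natDegree ≠ 0 := by
  rw [PA, natDegree_sub_C, natDegree_sub_eq_left_of_natDegree_lt, natDegree_X_pow]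
  · exact Fintype.card_ne_zero
  · rw [natDegree_X_pow]
    exact natDegree_X_le.trans_lt Fintype.one_lt_card

theorem natDegree_PB {R : Type*} [CommRing R] [Nontrivial R] (u : R) : (PB (Fintype.card k) u).natDegree ≠ 0 := by
  rw [PB, natDegree_X_pow_sub_C]
  exact Nat.sub_ne_zero_of_lt Fintype.one_lt_card

theorem cast_card_eq_zero {R : Type*} [CommRing R] (ρ : k →+* R) : ((Fintype.card k : ℕ) : R) = 0 := by
  rw [← map_natCast ρ, FiniteField.cast_card_eq_zero, map_zero]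

theorem separable_PA {R : Type*} [CommRing R] (ρ : k →+* R) (f : R) : (PA (Fintype.card k) f).Separable := by
  refine ⟨0, -1, ?_⟩
  have h : (C ((Fintype.card k : ℕ) : R) : R[X]) = 0 := by rw [cast_card_eq_zero ρ, C_0]
  rw [PA, derivative_sub, derivative_sub, derivative_X_pow, derivative_X, derivative_C, h]
  ring

theorem separable_PB {R : Type*} [CommRing R] (ρ : k →+* R) (u : R) (hu : IsUnit u) :
    (PB (Fintype.card k) u).Separable := by
  obtain ⟨u, rfl⟩ := hu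
  apply separable_X_pow_sub_C_unit
  rw [Nat.cast_sub Fintype.card_pos, cast_card_eq_zero ρ]
  simp

/-- The two properties of the covering needed below. -/
theorem exists_cover {X : Scheme.{u}} (ρ : k →+* Γ(X, ⊤)) (f u : Γ(X, ⊤)) (hu : IsUnit u) :
    ∃ (T : X.Etale) (z y : Γ(T.left, ⊤)), IsASK (Fintype.card k) (show T.left ⟶ X from T.hom) f u z y ∧
      ∀ x : X, ∃ t : T.left, T.hom t = x := by
  let T₁ := Root.T (PA (Fintype.card k) f)
  let π₁ : T₁ ⟶ X := Root.π (PA (Fintype.card k) f)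
  let T₂ := Root.T (PB (Fintype.card k) (π₁.appTop.hom u))
  let π₂ : T₂ ⟶ T₁ := Root.π (PB (Fintype.card k) (π₁.appTop.hom u))
  have e1 : Etale π₁ := Root.etale (monic_PA f) (separable_PA ρ f)
  have e2 : Etale π₂ := Root.etale (monic_PB _) (separable_PB (π₁.appTop.hom.comp ρ) _ (hu.map _))
  let T : X.Etale := Scheme.Etale.mk (π₂ ≫ π₁)
  have h1 : IsRoot π₁ (PA (Fintype.card k) f) (Root.x _) := Root.isRoot
  have h2 : IsRoot π₂ (PB (Fintype.card k) (π₁.appTop.hom u)) (Root.x _) := Root.isRoot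
  refine ⟨T, π₂.appTop.hom (Root.x _), Root.x _, isASK_comp h1 h2, fun x => ?_⟩
  have n1 : Nontrivial Γ(X, ⊤) := (X.presheaf.germ ⊤ x trivial).hom.domain_nontrivial
  obtain ⟨x₁, hx₁⟩ := h1.surjective (monic_PA f) (natDegree_PA f) x
  have n2 : Nontrivial Γ(T₁, ⊤) := (T₁.presheaf.germ ⊤ x₁ trivial).hom.domain_nontrivial
  obtain ⟨x₂, hx₂⟩ := h2.surjective (monic_PB _) (natDegree_PB _) x₁
  exact ⟨x₂, by
    change π₁ (π₂ x₂) = x
    rw [hx₂, hx₁]⟩

/-- The structure ring of the covering. -/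
noncomputable abbrev gl (W : Scheme.{u}) : Type u := Γ(W, ⊤)

variable (k) in
/-- The structure group of the covering. -/
abbrev GG : Type _ := Multiplicative k × kˣ

/-- Functions pulled back from the base. -/
noncomputable abbrev fb {X : Scheme.{u}} (W : X.Etale) : Γ(X, ⊤) →+* Γ(W.left, ⊤) :=
  (show W.left ⟶ X from W.hom).appTop.hom

/-- Functions pulled back along a morphism of étale schemes. -/
noncomputable abbrev pb {X : Scheme.{u}} {V W : X.Etale} (a : V ⟶ W) : Γ(W.left, ⊤) →+* Γ(V.left, ⊤) :=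
  a.left.appTop.hom

theorem pb_comp {X : Scheme.{u}} {U V W : X.Etale} (b : U ⟶ V) (a : V ⟶ W) (s : Γ(W.left, ⊤)) :
    pb (b ≫ a) s = pb b (pb a s) := by
  change (b.left ≫ a.left).appTop.hom s = _
  rw [Scheme.Hom.comp_appTop]
  rfl

theorem pb_fb {X : Scheme.{u}} {V W : X.Etale} (a : V ⟶ W) (s : Γ(X, ⊤)) : pb a (fb W s) = fb V s := by
  have h : a.left ≫ (show W.left ⟶ X from W.hom) = (show V.left ⟶ X from V.hom) := MorphismProperty.Over.w a
  change (a.left ≫ (show W.left ⟶ X from W.hom)).appTop.hom s = _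
  rw [h]

/-- A model of the Artin–Schreier–Kummer covering of `(f, u)`. -/
structure Tor {X : Scheme.{u}} (ρ : k →+* Γ(X, ⊤)) (f u : Γ(X, ⊤)) where
  /-- the covering -/
  T : X.Etale
  /-- the root of `z ^ q - z = f` -/
  z : Γ(T.left, ⊤)
  /-- the root of `y ^ (q - 1) = u` -/
  y : Γ(T.left, ⊤)
  isASK : IsASK (Fintype.card k) (show T.left ⟶ X from T.hom) f u z y
  isUnit : IsUnit u

namespace Tor

variable {X : Scheme.{u}} {ρ : k →+* Γ(X, ⊤)} {f u : Γ(X, ⊤)} (T : Tor ρ f u)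

theorem eq_z : T.z ^ Fintype.card k - T.z = fb T.T f := T.isASK.eq_z

theorem eq_y : T.y ^ (Fintype.card k - 1) = fb T.T u := T.isASK.eq_y

theorem isUnit_y : IsUnit T.y := by
  have h : IsUnit (T.y ^ (Fintype.card k - 1)) := by rw [T.eq_y]; exact T.isUnit.map _
  exact (isUnit_pow_iff (Nat.sub_ne_zero_of_lt Fintype.one_lt_card)).1 h

theorem exists_hom (W : X.Etale) (z' y' : Γ(W.left, ⊤)) (hz : z' ^ Fintype.card k - z' = fb W f)
    (hy : y' ^ (Fintype.card k - 1) = fb W u) : ∃ a : W ⟶ T.T, pb a T.z = z' ∧ pb a T.y = y' := by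
  obtain ⟨a, h1, h2, h3⟩ := T.isASK.exists_lift (show W.left ⟶ X from W.hom) z' y' hz hy
  exact ⟨MorphismProperty.Over.homMk a h1, h2, h3⟩

theorem hom_ext {W : X.Etale} {a b : W ⟶ T.T} (hz : pb a T.z = pb b T.z) (hy : pb a T.y = pb b T.y) : a = b := by
  apply MorphismProperty.Over.Hom.ext
  exact T.isASK.uniq _ _ ((MorphismProperty.Over.w a).trans (MorphismProperty.Over.w b).symm) hz hy

theorem surj (x : X) : ∃ t : T.T.left, T.T.hom t = x := by
  obtain ⟨T₀, z₀, y₀, h, hs⟩ := exists_cover ρ f u T.isUnit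
  obtain ⟨a, ha1, ha2⟩ := T.exists_hom T₀ z₀ y₀ h.eq_z h.eq_y
  obtain ⟨t, ht⟩ := hs x
  refine ⟨a.left t, ?_⟩
  rw [← ht]
  have h := MorphismProperty.Over.w a
  exact congrArg (fun q => q t) h

/-- The constants. -/
noncomputable abbrev cst (ρ : k →+* Γ(X, ⊤)) (W : X.Etale) : k →+* Γ(W.left, ⊤) := (fb W).comp ρ

omit [Fintype k] in
theorem pb_cst {V W : X.Etale} (a : V ⟶ W) (c : k) : pb a (cst ρ W c) = cst ρ V c := pb_fb a _

theorem exists_act (g : GG k) : ∃ a : T.T ⟶ T.T, pb a T.z = T.z + cst ρ T.T (Multiplicative.toAdd g.1) ∧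
    pb a T.y = cst ρ T.T (g.2 : k) * T.y := by
  apply T.exists_hom
  · rw [FrobFix.add_pow_card (cst ρ T.T), ← map_pow, FiniteField.pow_card, add_sub_add_right_eq_sub, T.eq_z]
  · rw [mul_pow, ← map_pow, FiniteField.pow_card_sub_one_eq_one _ g.2.ne_zero, map_one, one_mul, T.eq_y]

/-- The action. -/
noncomputable def act (g : GG k) : T.T ⟶ T.T := (T.exists_act g).choose

theorem act_z (g : GG k) : pb (T.act g) T.z = T.z + cst ρ T.T (Multiplicative.toAdd g.1) :=
  (T.exists_act g).choose_spec.1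

theorem act_y (g : GG k) : pb (T.act g) T.y = cst ρ T.T (g.2 : k) * T.y := (T.exists_act g).choose_spec.2

theorem exists_cst (ρ : k →+* Γ(X, ⊤)) (W : X.Etale) (v : Γ(W.left, ⊤)) (hv : v ^ Fintype.card k = v)
    (w : W.left) : ∃ (c : k) (W' : X.Etale) (i : W' ⟶ W) (w' : W'.left), i.left w' = w ∧ pb i v = cst ρ W' c := by
  obtain ⟨c, U, hU, h⟩ := FrobFix.exists_open (W := W.left) (cst ρ W) v hv w
  refine ⟨c, Groth.Agent.Sga4B.ConstLC.openSub W U, Groth.Agent.Sga4B.ConstLC.openSubι W U, ⟨w, hU⟩, rfl, ?_⟩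
  rw [← pb_cst (Groth.Agent.Sga4B.ConstLC.openSubι W U) c]
  exact h

theorem nontrivial_of_point {W : X.Etale} (w : W.left) : Nontrivial Γ(W.left, ⊤) :=
  ((show Scheme.{u} from W.left).presheaf.germ ⊤ w trivial).hom.domain_nontrivial

theorem locTrans : LocTrans T.act := by
  intro W a b w
  let v : Γ(W.left, ⊤) := pb b T.z - pb a T.z
  have hv : v ^ Fintype.card k = v := by
    have h1 := congrArg (pb a) T.eq_z
    have h2 := congrArg (pb b) T.eq_z
    rw [map_sub, map_pow, pb_fb] at h1 h2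
    rw [FrobFix.sub_pow_card (cst ρ W)]
    linear_combination h2 - h1
  obtain ⟨ya, hya⟩ := T.isUnit_y.map (pb a)
  let r : Γ(W.left, ⊤) := pb b T.y * ((ya⁻¹ : Γ(W.left, ⊤)ˣ) : Γ(W.left, ⊤))
  have hr0 : r * pb a T.y = pb b T.y := by
    change pb b T.y * ((ya⁻¹ : Γ(W.left, ⊤)ˣ) : Γ(W.left, ⊤)) * pb a T.y = _
    rw [← hya, mul_assoc, Units.inv_mul, mul_one]
  have hr1 : r ^ (Fintype.card k - 1) = 1 := by
    have h1 := congrArg (pb a) T.eq_y
    have h2 := congrArg (pb b) T.eq_y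
    rw [map_pow, pb_fb] at h1 h2
    have h4 : r ^ (Fintype.card k - 1) * fb W u = fb W u := by
      rw [← h1, ← mul_pow, hr0, h2, h1]
    exact (T.isUnit.map (fb W)).mul_eq_right.1 h4
  have hr : r ^ Fintype.card k = r := by
    calc r ^ Fintype.card k = r ^ (Fintype.card k - 1 + 1) := by rw [Nat.sub_add_cancel Fintype.card_pos]
      _ = r := by rw [pow_succ, hr1, one_mul]
  obtain ⟨c, W₁, i₁, w₁, h1, h2⟩ := exists_cst ρ W v hv w
  obtain ⟨d, W₂, i₂, w₂, h3, h4⟩ := exists_cst ρ W₁ (pb i₁ r) (by rw [← map_pow, hr]) w₁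
  have hd : d ≠ 0 := by
    rintro rfl
    have h5 := congrArg (fun q => pb i₂ (pb i₁ q)) hr1
    simp only [map_pow, map_one, h4, map_zero] at h5
    rw [zero_pow (Nat.sub_ne_zero_of_lt Fintype.one_lt_card)] at h5
    have := nontrivial_of_point w₂
    exact zero_ne_one h5
  refine ⟨W₂, i₂ ≫ i₁, w₂, (Multiplicative.ofAdd c, Units.mk0 d hd), ?_, ?_⟩
  · change i₁.left (i₂.left w₂) = w
    rw [h3, h1]
  · apply T.hom_ext
    · rw [← Category.assoc, pb_comp (_ ≫ a) (T.act _), act_z, map_add, pb_cst, pb_comp, pb_comp, pb_comp, pb_comp]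
      have h5 : pb b T.z = pb a T.z + v := by ring
      rw [h5, map_add, map_add, h2, pb_cst]
      rfl
    · rw [← Category.assoc, pb_comp (_ ≫ a) (T.act _), act_y, map_mul, pb_cst, pb_comp, pb_comp, pb_comp, pb_comp,
        ← hr0, map_mul, map_mul, h4]
      rfl

theorem act_one : T.act 1 = 𝟙 _ := by
  apply T.hom_ext
  · rw [act_z]
    change T.z + cst ρ T.T 0 = T.z
    rw [map_zero, add_zero]
  · rw [act_y]
    change cst ρ T.T 1 * T.y = T.y
    rw [map_one, one_mul]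

theorem act_mul (g h : GG k) : T.act (g * h) = T.act g ≫ T.act h := by
  apply T.hom_ext
  · rw [act_z, pb_comp, act_z, map_add, act_z, pb_cst]
    change T.z + cst ρ T.T (Multiplicative.toAdd g.1 + Multiplicative.toAdd h.1) = _
    rw [map_add, add_assoc]
  · rw [act_y, pb_comp, act_y, map_mul, act_y, pb_cst]
    change cst ρ T.T ((g.2 : k) * h.2) * T.y = _
    rw [map_mul]
    ring

theorem free (W : X.Etale) (a : W ⟶ T.T) (w : W.left) (g h : GG k) (e : a ≫ T.act g = a ≫ T.act h) : g = h := by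
  have := nontrivial_of_point w
  apply Prod.ext
  · have h1 : pb (a ≫ T.act g) T.z = pb (a ≫ T.act h) T.z := congrArg (fun q => pb q T.z) e
    rw [pb_comp, pb_comp, act_z, act_z, map_add, map_add, pb_cst, pb_cst, add_right_inj] at h1
    exact (cst ρ W).injective h1
  · have h1 : pb (a ≫ T.act g) T.y = pb (a ≫ T.act h) T.y := congrArg (fun q => pb q T.y) e
    rw [pb_comp, pb_comp, act_y, act_y, map_mul, map_mul, pb_cst, pb_cst, (T.isUnit_y.map (pb a)).mul_left_inj] at h1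
    exact Units.ext ((cst ρ W).injective h1)

/-- The action as a torsor structure. -/
noncomputable def torsAct : TorsAct T.T (GG k) where
  act := T.act
  act_one := T.act_one
  act_mul := T.act_mul
  trans := T.locTrans
  free := T.free

end Tor

end

end Groth.Agent.Sga4h.H918.Ask
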