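import Groth.Agent.Sga4h.H918.Lang

/-!
# Characters of rank one sheaves trivialised by a connected torsor

* `exists_smul`: over a connected `T` every section is a multiple of a generator;
* `exists_char`: the character by which the group acts on a generator;
* `exists_gen_of_pull`: a generator from `T^* L ≅ Λ`.
-/

set_option autoImplicit false

universe u

open CategoryTheory CategoryTheory.Limits AlgebraicGeometry Opposite

namespace Groth.Agent.Sga4h.H918.CharGen

open Groth.Agent.Etbase Groth.Agent.Etcore Groth.Agent.EtpbcA Groth.Agent.Etcore.LVan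
open Groth.Agent.Sga4h.H918.Gen Groth.Agent.Sga4h.H918.Tw Groth.Agent.Sga4h.H918.Tens

variable {Λ : Type (u + 1)} [CommRing Λ] {X : Scheme.{u}} {L : EtModW.Mod Λ X} {T : X.Etale}
  {s : EtModW.sect Λ L T}

/-- Values of a section are locally constant. -/
theorem isLocallyConstant_val (hs : IsGen L s) {V : X.Etale} (g : V ⟶ T) (t : EtModW.sect Λ L V) :
    IsLocallyConstant (fun v : V.left => val hs g v t) := by
  rw [IsLocallyConstant.iff_exists_open]
  intro v
  obtain ⟨W, c, w, hw, h⟩ := val_spec hs g v t
  refine ⟨Set.range c.left, (Cover.isOpenMap_left c).isOpen_range, ⟨w, hw⟩, ?_⟩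
  rintro _ ⟨w', rfl⟩
  apply val_unique hs g (c.left w') t (val_spec hs g _ t)
  exact ⟨W, c, w', rfl, h⟩

/-- Over a connected `V → T` every section is a multiple of the generator. -/
theorem exists_smul (hs : IsGen L s) {V : X.Etale} [ConnectedSpace V.left] (g : V ⟶ T) (t : EtModW.sect Λ L V) :
    ∃ r : Λ, t = r • res L g s := by
  let v₀ : V.left := Classical.arbitrary V.left
  refine ⟨val hs g v₀ t, (sect_ext L fun v => ?_).symm⟩
  rw [(isLocallyConstant_val hs g t).apply_eq_of_preconnectedSpace v₀ v]
  exact val_spec hs g v t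

theorem smul_injective (hs : IsGen L s) {V : X.Etale} [Nonempty V.left] (g : V ⟶ T) {r r' : Λ}
    (h : r • res L g s = r' • res L g s) : r = r' := by
  apply val_unique hs g (Classical.arbitrary V.left) (r • res L g s)
  · rw [sub_self]; exact Van.zero _
  · rw [h, sub_self]; exact Van.zero _

/-- The character of a generator over a connected torsor. -/
theorem exists_char [ConnectedSpace T.left] (hs : IsGen L s) {G : Type*} [Group G] (A : TorsAct T G) :
    ∃ θ : G →* Λˣ, ∀ g, res L (A.act g) s = ((θ g : Λˣ) : Λ) • s := by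
  have h1 : ∀ g, ∃ r : Λ, res L (A.act g) s = r • s := by
    intro g
    obtain ⟨r, hr⟩ := exists_smul hs (𝟙 T) (res L (A.act g) s)
    rw [res_id] at hr
    exact ⟨r, hr⟩
  choose r hr using h1
  have hinj : ∀ {a b : Λ}, a • s = b • s → a = b := by
    intro a b h
    apply smul_injective hs (𝟙 T)
    rw [res_id]; exact h
  have h2 : r 1 = 1 := by
    apply hinj
    rw [← hr, A.act_one, res_id, one_smul]
  have h3 : ∀ g h, r (g * h) = r g * r h := by
    intro g h
    apply hinj
    rw [← hr, A.act_mul, res_comp, hr h, map_smul, hr g, smul_smul, mul_comm]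
  exact ⟨MonoidHom.toHomUnits ⟨⟨r, h2⟩, h3⟩, hr⟩

/-- If the pull-back of `L` to the étale `T` is constant of rank one, `L` has a generator over `T`. -/
theorem exists_gen_of_pull (T : X.Etale)
    (e : (EtModW.pull Λ (show T.left ⟶ X from T.hom)).obj L ≅ EtModW.constMod Λ T.left Λ) :
    ∃ s : EtModW.sect Λ L T, IsGen L s := by
  obtain ⟨φ, hφ⟩ := Groth.Agent.Sga5.H835.InvRes.exists_of_res_iso (show T.left ⟶ X from T.hom)
    ((Groth.Agent.Sga4h.BidEtSh.pullIsoResM (Λ := Λ) (show T.left ⟶ X from T.hom)).symm.app L ≪≫ e)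
  have h1 : sMap L (φ 1) = φ := by
    ext
    simp
  have h2 : IsGen L (φ 1) := by
    intro y
    rw [h1]
    exact hφ y
  let i : T ⟶ (EtShriek.compEtale (show T.left ⟶ X from T.hom)).obj (EtCoh.top T.left) :=
    MorphismProperty.Over.homMk (𝟙 T.left) (Category.id_comp _)
  exact ⟨res L i (φ 1), h2.res i⟩

end Groth.Agent.Sga4h.H918.CharGen
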