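import Groth.Agent.Sga4h.H918.SpecCov
import Groth.Agent.Sga4h.H918.CharGen

/-!
# Sheaves which become constant on the Artin–Schreier–Kummer covering of an affine scheme

* `specTor`: `Spec R[z, y]/(z ^ q - z - g, y ^ (q - 1) - u)` as a model of the torsor;
* `exists_theta`, `exists_iso_F`: a sheaf which becomes constant of rank one on this covering is an `F_θ(g, u)` if the
  covering is connected.
-/

set_option autoImplicit false

universe u

open CategoryTheory CategoryTheory.Limits AlgebraicGeometry Polynomial Opposite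

namespace Groth.Agent.Sga4h.H918.AskTor

open Groth.Agent.Etbase Groth.Agent.Etcore Groth.Agent.EtpbcA Groth.Agent.Etcore.LVan
open Groth.Agent.Sga4h.H918.Gen Groth.Agent.Sga4h.H918.Tw Groth.Agent.Sga4h.H918.Ask
open Groth.Agent.Sga4h.H918.Lang Groth.Agent.Sga4h.H918.SpecCov Groth.Agent.Sga4h.H918.CharGen

variable {k : Type*} [Field k] [Fintype k] {R : Type u} [CommRing R]

/-- The covering. -/
noncomputable abbrev cov (q : ℕ) (g u : R) : Spec (CommRingCat.of (LangSh.ASKAlg R q g (q - 1) u)) ⟶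
    Spec (CommRingCat.of R) :=
  LangSh.cover R (LangSh.ASKAlg R q g (q - 1) u)

theorem etale_cov (ρ : k →+* R) (g u : R) (hu : IsUnit u) : Etale (cov (Fintype.card k) g u) := by
  obtain ⟨T, z, y, h, -⟩ := exists_cover ((gm R).comp ρ) (gm R g) (gm R u) (hu.map _)
  obtain ⟨e, he, -⟩ := nonempty_iso_of_isASK (isASK_spec (Fintype.card k) g u) h
  have h1 : Etale (show T.left ⟶ Spec (CommRingCat.of R) from T.hom) := T.prop
  rw [cov, ← he]
  infer_instance

/-- The covering as a model of the torsor. -/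
noncomputable def specTor (ρ : k →+* R) (g u : R) (hu : IsUnit u) : Tor ((gm R).comp ρ) (gm R g) (gm R u) where
  T := haveI := etale_cov ρ g u hu; Scheme.Etale.mk (cov (Fintype.card k) g u)
  z := gm _ (zz (Fintype.card k) g (Fintype.card k - 1) u)
  y := gm _ (yy (Fintype.card k) g (Fintype.card k - 1) u)
  isASK := isASK_spec (Fintype.card k) g u
  isUnit := hu.map _

theorem specTor_left (ρ : k →+* R) (g u : R) (hu : IsUnit u) : ((specTor ρ g u hu).T.left : Scheme.{u}) =
    Spec (CommRingCat.of (LangSh.ASKAlg R (Fintype.card k) g (Fintype.card k - 1) u)) := rfl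

theorem surjective_cov (ρ : k →+* R) (g u : R) (hu : IsUnit u) : Surjective (cov (Fintype.card k) g u) :=
  ⟨fun x => (specTor ρ g u hu).surj x⟩

variable {Λ : Type (u + 1)} [CommRing Λ]

/-- The character of a sheaf which becomes constant on the covering. -/
theorem exists_theta (ρ : k →+* R) (g u : R) (hu : IsUnit u)
    [ConnectedSpace (Spec (CommRingCat.of (LangSh.ASKAlg R (Fintype.card k) g (Fintype.card k - 1) u)))]
    (L : EtModW.Mod Λ (Spec (CommRingCat.of R)))
    (e : Nonempty ((EtModW.pull Λ (cov (Fintype.card k) g u)).obj L ≅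
      EtModW.constMod Λ (Spec (CommRingCat.of (LangSh.ASKAlg R (Fintype.card k) g (Fintype.card k - 1) u))) Λ)) :
    ∃ (s : EtModW.sect Λ L (specTor ρ g u hu).T) (θ : GG k →* Λˣ), IsGen L s ∧
      ∀ a, res L ((specTor ρ g u hu).act a) s = ((θ a : Λˣ) : Λ) • s := by
  obtain ⟨e⟩ := e
  obtain ⟨s, hs⟩ := exists_gen_of_pull (specTor ρ g u hu).T (L := L) e
  have hc : ConnectedSpace ((specTor ρ g u hu).T.left : Scheme.{u}) := by
    rw [specTor_left]; infer_instance
  obtain ⟨θ, hθ⟩ := exists_char hs (specTor ρ g u hu).torsAct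
  exact ⟨s, θ, hs, hθ⟩

theorem nonempty_iso_of_gen (ρ : k →+* R) (g u : R) (hu : IsUnit u) (L : EtModW.Mod Λ (Spec (CommRingCat.of R)))
    (s : EtModW.sect Λ L (specTor ρ g u hu).T) (θ : GG k →* Λˣ) (hs : IsGen L s)
    (hθ : ∀ a, res L ((specTor ρ g u hu).act a) s = ((θ a : Λˣ) : Λ) • s) :
    Nonempty (L ≅ F ((gm R).comp ρ) θ (gm R g) (gm R u) (hu.map _)) :=
  nonempty_iso_F (specTor ρ g u hu) θ ⟨s, hs, hθ⟩

/-- **A sheaf which becomes constant of rank one on a connected Artin–Schreier–Kummer covering is an `F_θ(g, u)`.** -/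
theorem exists_iso_F (ρ : k →+* R) (g u : R) (hu : IsUnit u)
    [ConnectedSpace (Spec (CommRingCat.of (LangSh.ASKAlg R (Fintype.card k) g (Fintype.card k - 1) u)))]
    (L : EtModW.Mod Λ (Spec (CommRingCat.of R)))
    (e : Nonempty ((EtModW.pull Λ (cov (Fintype.card k) g u)).obj L ≅
      EtModW.constMod Λ (Spec (CommRingCat.of (LangSh.ASKAlg R (Fintype.card k) g (Fintype.card k - 1) u))) Λ)) :
    ∃ θ : GG k →* Λˣ, Nonempty (L ≅ F ((gm R).comp ρ) θ (gm R g) (gm R u) (hu.map _)) := by
  obtain ⟨s, θ, hs, hθ⟩ := exists_theta ρ g u hu L e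
  exact ⟨θ, nonempty_iso_of_gen ρ g u hu L s θ hs hθ⟩

end Groth.Agent.Sga4h.H918.AskTor
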