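import Groth.Agent.Sga4h.H918.AskTor
import Groth.Agent.Sga4h.H918.LocTr
import Groth.Agent.Sga4h.H299.LamMod

/-!
# The trace function of a sheaf trivialised by an Artin–Schreier–Kummer covering

`locTrace_eq`: if `L` becomes constant on the covering of `(g, u)`, and `k × k^*` acts on a generator through `θ`, the
trace of the geometric Frobenius at a rational point `x` is `θ(-g(x), u(x)⁻¹) = θ(g(x), u(x))⁻¹`.
-/

set_option autoImplicit false

universe u

open CategoryTheory CategoryTheory.Limits AlgebraicGeometry Opposite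

namespace Groth.Agent.Sga4h.H918.AskTrace

open Groth.Agent.Etbase Groth.Agent.Etcore
open Groth.Agent.Sga4h.H918.Gen Groth.Agent.Sga4h.H918.Tw Groth.Agent.Sga4h.H918.Ask
open Groth.Agent.Sga4h.H918.Lang Groth.Agent.Sga4h.H918.SpecCov Groth.Agent.Sga4h.H918.CharGen
open Groth.Agent.Sga4h.H918.AskTor Groth.Agent.Sga4h.H299.LamMod

section Arith

variable {k : Type u} [Field k] [Fintype k] {K : Type u} [Field K] [Algebra k K] [Algebra.IsAlgebraic k K]

theorem arith_apply (z : K) : FinFr.arith k K z = z ^ Fintype.card k := rfl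

theorem arith_symm_add (z : K) (c : k) (h : z ^ Fintype.card k - z = algebraMap k K c) :
    (FinFr.arith k K).symm z = z + algebraMap k K (-c) := by
  rw [AlgEquiv.symm_apply_eq, map_add, AlgEquiv.commutes, arith_apply, map_neg, ← h]
  ring

theorem arith_symm_mul (y : K) (d : kˣ) (h : y ^ (Fintype.card k - 1) = algebraMap k K d) :
    (FinFr.arith k K).symm y = algebraMap k K ((d⁻¹ : kˣ) : k) * y := by
  rw [AlgEquiv.symm_apply_eq, map_mul, AlgEquiv.commutes, arith_apply]
  have h1 : y ^ Fintype.card k = y ^ (Fintype.card k - 1) * y := by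
    rw [← pow_succ, Nat.sub_add_cancel Fintype.card_pos]
  rw [h1, h, ← mul_assoc, ← map_mul, Units.inv_mul, map_one, one_mul]

end Arith

section Point

variable {k : Type u} [Field k] [Fintype k] {K : Type u} [Field K] [Algebra k K] [IsAlgClosed K]
  [Algebra.IsAlgebraic k K] {R : Type u} [CommRing R] [Algebra k R] (g u : R) (hu : IsUnit u)

omit [Fintype k] [IsAlgClosed K] [Algebra.IsAlgebraic k K] in
theorem appTop_ext (x : R →ₐ[k] k) (r : R) :
    (FinFr.extπ K (𝟙 (Spec (CommRingCat.of k))) ≫ LangSh.pt x).appTop.hom (gm R r) =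
      (FinFr.extStr K (𝟙 (Spec (CommRingCat.of k)))).appTop.hom (gm K (algebraMap k K (x r))) := by
  have h1 : FinFr.extπ K (𝟙 (Spec (CommRingCat.of k))) =
      FinFr.extStr K (𝟙 (Spec (CommRingCat.of k))) ≫ FinFr.specι k K := by
    have := pullback.condition (f := 𝟙 (Spec (CommRingCat.of k))) (g := FinFr.specι k K)
    rwa [Category.comp_id] at this
  rw [h1, Scheme.Hom.comp_appTop, Scheme.Hom.comp_appTop]
  change (FinFr.extStr K (𝟙 (Spec (CommRingCat.of k)))).appTop.hom ((FinFr.specι k K).appTop.hom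
    ((LangSh.pt x).appTop.hom (gm R r))) = _
  have h2 : (LangSh.pt x).appTop.hom (gm R r) = gm k (x r) := appTop_gm x.toRingHom r
  have h3 : (FinFr.specι k K).appTop.hom (gm k (x r)) = gm K (algebraMap k K (x r)) :=
    appTop_gm (algebraMap k K) (x r)
  rw [h2, h3]

include hu in
/-- The geometric point of the covering and the action of Frobenius. -/
theorem exists_point (x : R →ₐ[k] k) (d : kˣ) (hd : (d : k) = x u) :
    ∃ τ : FinFr.ext K (𝟙 (Spec (CommRingCat.of k))) ⟶ (specTor (algebraMap k R) g u hu).T.left,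
      τ ≫ cov (Fintype.card k) g u = FinFr.extπ K (𝟙 _) ≫ LangSh.pt x ∧
      FinFr.galAct (𝟙 (Spec (CommRingCat.of k))) (FinFr.arith k K).symm ≫ τ =
        τ ≫ ((specTor (algebraMap k R) g u hu).act (Multiplicative.ofAdd (-(x g)), d⁻¹)).left := by
  let T := specTor (algebraMap k R) g u hu
  let Y : Scheme.{u} := FinFr.ext K (𝟙 (Spec (CommRingCat.of k)))
  let s : Y ⟶ Spec (CommRingCat.of K) := FinFr.extStr K (𝟙 (Spec (CommRingCat.of k)))
  let φ : K ≃ₐ[k] K := (FinFr.arith k K).symm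
  let σ : Y ⟶ Y := FinFr.galAct (𝟙 (Spec (CommRingCat.of k))) φ
  let S : K →+* Γ(Y, ⊤) := s.appTop.hom.comp (gm K)
  have hσs : ∀ z : K, σ.appTop.hom (S z) = S (φ z) := by
    intro z
    have h1 : σ ≫ s = s ≫ Spec.map (CommRingCat.ofHom (φ : K →+* K)) := FinFr.galAct_snd _ _
    have h2 : (σ ≫ s).appTop.hom (gm K z) = (s ≫ Spec.map (CommRingCat.ofHom (φ : K →+* K))).appTop.hom (gm K z) := by
      rw [h1]
    refine (show σ.appTop.hom (S z) = (σ ≫ s).appTop.hom (gm K z) from rfl).trans (h2.trans ?_)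
    change s.appTop.hom ((Spec.map (CommRingCat.ofHom (φ : K →+* K))).appTop.hom (gm K z)) = _
    rw [appTop_gm]
    rfl
  have hx : ∀ r : R, (FinFr.extπ K (𝟙 (Spec (CommRingCat.of k))) ≫ LangSh.pt x).appTop.hom (gm R r) =
      S (algebraMap k K (x r)) := appTop_ext x
  obtain ⟨z₀, hz₀⟩ : ∃ z₀ : K, z₀ ^ Fintype.card k - z₀ = algebraMap k K (x g) := by
    obtain ⟨z₀, hz₀⟩ := IsAlgClosed.exists_eval₂_eq_zero (RingHom.id K) (PA (Fintype.card k) (algebraMap k K (x g)))
      (by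
        rw [Polynomial.degree_eq_natDegree (monic_PA (algebraMap k K (x g))).ne_zero]
        exact_mod_cast natDegree_PA (algebraMap k K (x g)))
    exact ⟨z₀, (eval_PA _ (algebraMap k K (x g)) (RingHom.id K) z₀).1 hz₀⟩
  obtain ⟨y₀, hy₀⟩ : ∃ y₀ : K, y₀ ^ (Fintype.card k - 1) = algebraMap k K (d : k) :=
    IsAlgClosed.exists_pow_nat_eq _ (Nat.sub_pos_of_lt Fintype.one_lt_card)
  obtain ⟨τ, hτ, hτz, hτy⟩ := T.isASK.exists_lift (FinFr.extπ K (𝟙 _) ≫ LangSh.pt x) (S z₀) (S y₀)
    (by rw [hx, ← map_pow, ← map_sub, hz₀]) (by rw [hx, ← map_pow, hy₀, hd])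
  have hg : ∀ a : GG k, (T.act a).left ≫ cov (Fintype.card k) g u = cov (Fintype.card k) g u := fun a =>
    MorphismProperty.Over.w (T.act a)
  have hcst : ∀ c : k, τ.appTop.hom (Tor.cst ((gm R).comp (algebraMap k R)) T.T c) = S (algebraMap k K c) := by
    intro c
    have h1 : τ.appTop.hom (Tor.cst ((gm R).comp (algebraMap k R)) T.T c) =
        (τ ≫ (show T.T.left ⟶ Spec (CommRingCat.of R) from T.T.hom)).appTop.hom (gm R (algebraMap k R c)) := rfl
    rw [h1, hτ, hx, AlgHom.commutes]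
    rfl
  refine ⟨τ, hτ, ?_⟩
  apply T.isASK.uniq
  · have e1 : (σ ≫ τ) ≫ (show T.T.left ⟶ Spec (CommRingCat.of R) from T.T.hom) =
        σ ≫ FinFr.extπ K (𝟙 _) ≫ LangSh.pt x := by rw [Category.assoc, hτ]
    have e2 : σ ≫ FinFr.extπ K (𝟙 (Spec (CommRingCat.of k))) ≫ LangSh.pt x = FinFr.extπ K (𝟙 _) ≫ LangSh.pt x := by
      rw [← Category.assoc, FinFr.galAct_fst]
    refine (e1.trans e2).trans (hτ.symm.trans ?_)
    rw [Category.assoc]
    exact congrArg (fun q => τ ≫ q) (hg _).symm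
  · rw [Scheme.Hom.comp_appTop, Scheme.Hom.comp_appTop]
    change σ.appTop.hom (τ.appTop.hom T.z) = τ.appTop.hom (pb (T.act _) T.z)
    rw [hτz, hσs, T.act_z, map_add, hτz, hcst]
    change S ((FinFr.arith k K).symm z₀) = _
    rw [arith_symm_add z₀ (x g) hz₀, map_add]
    rfl
  · rw [Scheme.Hom.comp_appTop, Scheme.Hom.comp_appTop]
    change σ.appTop.hom (τ.appTop.hom T.y) = τ.appTop.hom (pb (T.act _) T.y)
    rw [hτy, hσs, T.act_y, map_mul, hτy, hcst]
    change S ((FinFr.arith k K).symm y₀) = _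
    rw [arith_symm_mul y₀ d hy₀, map_mul]

end Point

section Trace

open Groth.Agent.Etcore.LocEt Groth.Agent.Etcore.PullCoh Groth.Agent.Etcore.LocSec
open Groth.Agent.Sga4h.H917.GSec Groth.Agent.Sga4h.H917.LocTr Groth.Agent.Sga4h.H917.EigAbs

variable {Λ : Type} [Field Λ] {X : Scheme.{u}}

/-- The eigenvalue on a generator of the trivialised sheaf. -/
theorem isEig_of_gen (L : EtLam.Sheaf Λ X) (V : X.Etale) [ConnectedSpace V.left]
    (e : (EtCoh.pull (show V.left ⟶ X from V.hom)).obj L.carrier ≅ EtCoh.const V.left Λ)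
    (s : EtModW.sect (UL.{u} Λ) (toMod L) V) (hs : IsGen (toMod L) s) (g : V ⟶ V) (c : UL.{u} Λ)
    (hg : LVan.res (toMod L) g s = c • s) (w : g.left ≫ (show V.left ⟶ X from V.hom) = V.hom) :
    IsEig L.act e g.left w c.down := by
  obtain ⟨s₀, hs₀⟩ := (lo_bijective V L.carrier).2 (one e)
  obtain ⟨r, hr⟩ := exists_smul hs (𝟙 V) (show EtModW.sect (UL.{u} Λ) (toMod L) V from s₀)
  rw [LVan.res_id] at hr
  have key : LVan.res (toMod L) g (show EtModW.sect (UL.{u} Λ) (toMod L) V from s₀) =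
      c • (show EtModW.sect (UL.{u} Λ) (toMod L) V from s₀) := by
    rw [hr, map_smul, hg, smul_comm]
  have key2 : LocSec.res L.carrier g s₀ = app (L.act c.down) V s₀ := key
  rw [IsEig, ← hs₀]
  refine (gpV_lo g w L.carrier s₀).trans ?_
  rw [key2]
  exact lo_map V (L.act c.down) s₀

variable {k : Type u} [Field k] [Fintype k] {K : Type u} [Field K] [Algebra k K] [IsAlgClosed K]
  [Algebra.IsAlgebraic k K] [Fact FinFr.PullExact.{u}] {R : Type u} [CommRing R] [Algebra k R] (g u : R)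
  (hu : IsUnit u)

/-- **The trace function.** -/
theorem locTrace_eq
    [ConnectedSpace (Spec (CommRingCat.of (LangSh.ASKAlg R (Fintype.card k) g (Fintype.card k - 1) u)))]
    (L : EtLam.Sheaf Λ (Spec (CommRingCat.of R))) (hL : LangSh.IsConstOn (cov (Fintype.card k) g u) L)
    (s : EtModW.sect (UL.{u} Λ) (toMod L) (specTor (algebraMap k R) g u hu).T) (θ : GG k →* (UL.{u} Λ)ˣ)
    (hs : IsGen (toMod L) s)
    (hθ : ∀ a, LVan.res (toMod L) ((specTor (algebraMap k R) g u hu).act a) s = ((θ a : (UL.{u} Λ)ˣ) : UL.{u} Λ) • s)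
    (x : R →ₐ[k] k) (d : kˣ) (hd : (d : k) = x u) :
    FinFr.locTrace (K := K) (LangSh.pt x) L =
      ((θ (Multiplicative.ofAdd (-(x g)), d⁻¹) : (UL.{u} Λ)ˣ) : UL.{u} Λ).down := by
  obtain ⟨e, he⟩ := hL
  obtain ⟨τ, hτ, hσ⟩ := exists_point (K := K) g u hu x d hd
  have hc : ConnectedSpace ((specTor (algebraMap k R) g u hu).T.left : Scheme.{u}) := by
    rw [specTor_left]; infer_instance
  have w : ((specTor (algebraMap k R) g u hu).act (Multiplicative.ofAdd (-(x g)), d⁻¹)).left ≫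
      cov (Fintype.card k) g u = cov (Fintype.card k) g u := MorphismProperty.Over.w _
  exact Groth.Agent.Sga4h.H918.LocTr.locTrace_eq L (cov (Fintype.card k) g u) e he (LangSh.pt x) τ hτ _ w _
    (isEig_of_gen L (specTor (algebraMap k R) g u hu).T e s hs _ _ (hθ _) w) hσ

end Trace

end Groth.Agent.Sga4h.H918.AskTrace
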