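import Groth.Agent.Sga4h.H918.AskExact
import Groth.Agent.Sga4h.H931.JacPts

/-!
# The Gauss sum as a Frobenius eigenvalue, from the trace formula
-/

set_option autoImplicit false

universe u

open CategoryTheory CategoryTheory.Limits AlgebraicGeometry Opposite LaurentPolynomial

namespace Groth.Agent.Sga4h.H918.FrobGauss

open Groth.Agent.Sga4h.H918.AskExact Groth.Agent.Sga4h.H931.LocTr Groth.Agent.Sga4h.H931.JacPts

theorem sum_units {k : Type*} [Field k] [Fintype k] {M : Type*} [AddCommMonoid M] (f : k → M) (h0 : f 0 = 0) :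
    ∑ a, f a = ∑ᶠ x : kˣ, f x := by
  classical
  rw [finsum_eq_sum_of_fintype]
  symm
  have h1 : ∑ x : kˣ, f x = ∑ x : {a : k // a ≠ 0}, f x := Fintype.sum_equiv unitsEquivNeZero _ _ (fun x => rfl)
  rw [h1, ← Finset.sum_subtype (Finset.univ.filter (fun a : k => a ≠ 0)) (by simp) f]
  apply Finset.sum_subset (Finset.filter_subset _ _)
  intro x _ hx
  have hx0 : x = 0 := by simpa using hx
  rw [hx0, h0]

theorem frobC_gauss {k K : Type u} [Field k] [Fintype k] [Field K] [Algebra k K] [IsAlgClosed K]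
    [Algebra.IsAlgebraic k K] {Λ : Type} [Field Λ] [Fact FinFr.PullExact.{u}] (ψ : AddChar k Λ) (χ : MulChar k Λ)
    (uT : (k[T;T⁻¹])ˣ) (huT : (uT : k[T;T⁻¹]) = T 1) (L : EtLam.Sheaf Λ (Spec (CommRingCat.of k[T;T⁻¹])))
    (hL : LangSh.IsASKSheaf K ψ (T 1) χ uT L) {P₀ : Scheme.{u}} (j : Spec (CommRingCat.of k[T;T⁻¹]) ⟶ P₀)
    [IsOpenImmersion j] (b : P₀ ⟶ Spec (CommRingCat.of k))
    (hTF : ∑ᶠ x : FinFr.RatPt (Spec.map (CommRingCat.ofHom (algebraMap k k[T;T⁻¹]))),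
      FinFr.locTrace (K := K) x.1 L =
      ∑ᶠ i : ℕ, (-1 : Λ) ^ i * LinearMap.trace Λ _ (FinFr.frobC (K := K) j b L i))
    (h0 : ∀ i : ℕ, i ≠ 1 → Subsingleton (EtCoh.H (FinFr.ext K b)
      (EtLam.pullback (FinFr.extπ K b) (FinFr.extZeroLam j L)).carrier i))
    (h1 : Module.finrank Λ (EtCoh.H (FinFr.ext K b)
      (EtLam.pullback (FinFr.extπ K b) (FinFr.extZeroLam j L)).carrier 1) = 1) :
    FinFr.frobC (K := K) j b L 1 = (-(gaussSum χ ψ)) • LinearMap.id := by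
  have h2 : gaussSum χ ψ = ∑ᶠ i : ℕ, (-1 : Λ) ^ i * LinearMap.trace Λ _ (FinFr.frobC (K := K) j b L i) := by
    rw [← hTF, finsum_ratPt (k := k) (R := k[T;T⁻¹]) (fun x => FinFr.locTrace (K := K) x L),
      ← finsum_comp_equiv (ptEquiv (k := k)), gaussSum, sum_units _ (by rw [MulChar.map_zero, zero_mul])]
    refine finsum_congr fun x => ?_
    rw [mul_comm]
    exact (locTrace_pt ψ χ uT huT L hL x).symm
  have h3 := eq_smul_of_trace _ (fun i => FinFr.frobC (K := K) j b L i) 1 h0 h1 _ h2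
  rw [pow_one, neg_one_mul] at h3
  exact h3

end Groth.Agent.Sga4h.H918.FrobGauss
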