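import Groth.Agent.Etcore.LVan
import Groth.Agent.Etcore.LPull
import Groth.Agent.EtpbcA.EqLocus

/-!
# Sheaves of modules with a free generator on an étale covering

* `IsGen L s`: the section `s ∈ L(T)` freely generates `L` over `T`.
* `nonempty_iso_of_rel`: two sheaves with free generators over a covering `T` satisfying the same relations are
  isomorphic.
* `HasGen L T act θ`: there is a free generator `s` over `T` with `g^* s = θ(g) s` for all `g`.
* `HasGen.unique`, `HasGen.res`, `HasGen.pull`, `HasGen.desc`.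
-/

set_option autoImplicit false
universe u

open CategoryTheory CategoryTheory.Limits AlgebraicGeometry Opposite

namespace Groth.Agent.Sga4h.H918.Gen

open Groth.Agent.Etbase Groth.Agent.Etcore Groth.Agent.EtpbcA Groth.Agent.Etcore.LVan

variable {Λ : Type (u + 1)} [CommRing Λ] {X : Scheme.{u}}

/-- `r ↦ r • s`. -/
noncomputable abbrev sMap (L : EtModW.Mod Λ X) {T : X.Etale} (s : EtModW.sect Λ L T) :
    Λ →ₗ[Λ] EtModW.sect Λ L T := LinearMap.toSpanSingleton Λ _ s

/-- `s` is a free generator of `L` over `T`. -/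
def IsGen (L : EtModW.Mod Λ X) {T : X.Etale} (s : EtModW.sect Λ L T) : Prop :=
  ∀ y : T.left, InjAt L (sMap L s) y ∧ SurjAt L (sMap L s) y

theorem resHom_sMap (L : EtModW.Mod Λ X) {T T' : X.Etale} (g : T' ⟶ T) (s : EtModW.sect Λ L T) :
    resHom g (sMap L s) = sMap L (res L g s) := by
  ext
  simp

theorem IsGen.res {L : EtModW.Mod Λ X} {T T' : X.Etale} (g : T' ⟶ T) {s : EtModW.sect Λ L T}
    (h : IsGen L s) : IsGen L (res L g s) := by
  intro y
  rw [← resHom_sMap, injAt_res_iff, surjAt_res_iff]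
  exact h _

theorem IsGen.of_res {L : EtModW.Mod Λ X} {T T' : X.Etale} (g : T' ⟶ T)
    (hg : ∀ t : T.left, ∃ t' : T'.left, g.left t' = t) {s : EtModW.sect Λ L T}
    (h : IsGen L (LVan.res L g s)) : IsGen L s := by
  intro y
  obtain ⟨y', rfl⟩ := hg y
  have := h y'
  rwa [← resHom_sMap, injAt_res_iff, surjAt_res_iff] at this

theorem sect_ext (F : EtModW.Mod Λ X) {U : X.Etale} {s t : EtModW.sect Λ F U}
    (h : ∀ x, Van F (s - t) x) : s = t := sub_eq_zero.1 (eq_zero_of_van _ h)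

theorem sect_ext' (F : EtModW.Mod Λ X) {U : X.Etale} {s t : EtModW.sect Λ F U}
    (h : ∀ x : U.left, ∃ (V : X.Etale) (g : V ⟶ U) (v : V.left), g.left v = x ∧ res F g s = res F g t) :
    s = t := by
  refine sect_ext F fun x => ?_
  obtain ⟨V, g, v, hv, h⟩ := h x
  exact ⟨V, g, v, hv, by rw [map_sub, h, sub_self]⟩

/-- Gluing of sections satisfying a property which determines them. -/
theorem exists_of_local (F : EtModW.Mod Λ X) (U : X.Etale)
    (P : ∀ (V : X.Etale) (_ : V ⟶ U), EtModW.sect Λ F V → Prop)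
    (hres : ∀ (V W : X.Etale) (g : V ⟶ U) (k : W ⟶ V) (t : EtModW.sect Λ F V), P V g t → P W (k ≫ g) (res F k t))
    (huniq : ∀ (V : X.Etale) (g : V ⟶ U) (t t' : EtModW.sect Λ F V), P V g t → P V g t' → t = t')
    (hex : ∀ x : U.left, ∃ (V : X.Etale) (g : V ⟶ U) (v : V.left) (t : EtModW.sect Λ F V),
      g.left v = x ∧ P V g t) :
    ∃ t : EtModW.sect Λ F U, ∀ x : U.left, ∃ (V : X.Etale) (g : V ⟶ U) (v : V.left),
      g.left v = x ∧ P V g (res F g t) := by
  choose V g v t hv ht using hex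
  obtain ⟨t₀, ht₀⟩ := EqLocus.exists_glue (ab F) V g (fun x => ⟨x, v x, hv x⟩) (fun x => toAb F (t x))
    (fun i j W a b h => by
      have h1 := hres _ _ (g i) a (t i) (ht i)
      have h2 := hres _ _ (g j) b (t j) (ht j)
      have h3 : ∀ (c d : W ⟶ U) (_ : c = d) (z : EtModW.sect Λ F W), P W d z → P W c z := by
        rintro c _ rfl z hz; exact hz
      exact huniq _ _ _ _ h1 (h3 _ _ h _ h2))
  refine ⟨t₀, fun x => ⟨V x, g x, v x, hv x, ?_⟩⟩
  have h4 : res F (g x) t₀ = t x := ht₀ x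
  rw [h4]
  exact ht x

section Rel

variable (L L' : EtModW.Mod Λ X) {T : X.Etale} (s : EtModW.sect Λ L T) (s' : EtModW.sect Λ L' T)

/-- `s` and `s'` satisfy the same relations on overlaps. -/
def Compat : Prop :=
  ∀ (W : X.Etale) (a b : W ⟶ T) (w : W.left), ∃ (W' : X.Etale) (c : W' ⟶ W) (w' : W'.left) (r : Λ),
    c.left w' = w ∧ res L (c ≫ b) s = r • res L (c ≫ a) s ∧ res L' (c ≫ b) s' = r • res L' (c ≫ a) s'

/-- `t ∈ L(V)` and `t' ∈ L'(V)` are locally the same multiples of `s` and `s'`. -/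
def Rel (V : X.Etale) (t : EtModW.sect Λ L V) (t' : EtModW.sect Λ L' V) : Prop :=
  ∀ v : V.left, ∃ (W : X.Etale) (g : W ⟶ V) (w : W.left) (a : W ⟶ T) (r : Λ), g.left w = v ∧
    res L g t = r • res L a s ∧ res L' g t' = r • res L' a s'

variable {L L' s s'}

theorem Compat.symm (h : Compat L L' s s') : Compat L' L s' s := by
  intro W a b w
  obtain ⟨W', c, w', r, h1, h2, h3⟩ := h W a b w
  exact ⟨W', c, w', r, h1, h3, h2⟩

theorem Rel.symm {V : X.Etale} {t : EtModW.sect Λ L V} {t' : EtModW.sect Λ L' V} (h : Rel L L' s s' V t t') :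
    Rel L' L s' s V t' t := by
  intro v
  obtain ⟨W, g, w, a, r, h1, h2, h3⟩ := h v
  exact ⟨W, g, w, a, r, h1, h3, h2⟩

theorem Rel.res {V V' : X.Etale} (k : V' ⟶ V) {t : EtModW.sect Λ L V} {t' : EtModW.sect Λ L' V}
    (h : Rel L L' s s' V t t') : Rel L L' s s' V' (res L k t) (res L' k t') := by
  intro v'
  obtain ⟨W, g, w, a, r, h1, h2, h3⟩ := h (k.left v')
  obtain ⟨P, p, q, z, hpq, hz1, hz2⟩ := EtSite.exists_pullback k g v' w h1.symm
  refine ⟨P, p, z, q ≫ a, r, hz1, ?_, ?_⟩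
  · rw [← res_comp, hpq, res_comp, h2, map_smul, ← res_comp]
  · rw [← res_comp, hpq, res_comp, h3, map_smul, ← res_comp]

theorem Rel.smul {V : X.Etale} {t : EtModW.sect Λ L V} {t' : EtModW.sect Λ L' V} (c : Λ)
    (h : Rel L L' s s' V t t') : Rel L L' s s' V (c • t) (c • t') := by
  intro v
  obtain ⟨W, g, w, a, r, h1, h2, h3⟩ := h v
  exact ⟨W, g, w, a, c * r, h1, by rw [map_smul, h2, smul_smul], by rw [map_smul, h3, smul_smul]⟩

theorem Rel.add (hc : Compat L L' s s') {V : X.Etale} {t₁ t₂ : EtModW.sect Λ L V} {t₁' t₂' : EtModW.sect Λ L' V}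
    (h₁ : Rel L L' s s' V t₁ t₁') (h₂ : Rel L L' s s' V t₂ t₂') :
    Rel L L' s s' V (t₁ + t₂) (t₁' + t₂') := by
  intro v
  obtain ⟨W₁, g₁, w₁, a₁, r₁, h1, h2, h3⟩ := h₁ v
  obtain ⟨W₂, g₂, w₂, a₂, r₂, k1, k2, k3⟩ := h₂ v
  obtain ⟨P, p, q, z, hpq, hz1, hz2⟩ := EtSite.exists_pullback g₁ g₂ w₁ w₂ (h1.trans k1.symm)
  obtain ⟨W', c, w', r, e1, e2, e3⟩ := hc P (p ≫ a₁) (q ≫ a₂) z
  refine ⟨W', c ≫ p ≫ g₁, w', c ≫ p ≫ a₁, r₁ + r₂ * r, ?_, ?_, ?_⟩
  · change g₁.left (p.left (c.left w')) = v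
    rw [e1, hz1, h1]
  · have f1 : LVan.res L (c ≫ p ≫ g₁) t₁ = r₁ • LVan.res L (c ≫ p ≫ a₁) s := by
      rw [res_comp, res_comp, h2, map_smul, map_smul, ← res_comp, ← res_comp, Category.assoc]
    have f2 : LVan.res L (c ≫ p ≫ g₁) t₂ = r₂ • LVan.res L (c ≫ q ≫ a₂) s := by
      rw [hpq, res_comp, res_comp, k2, map_smul, map_smul, ← res_comp, ← res_comp, Category.assoc]
    rw [map_add, f1, f2, e2, add_smul, smul_smul]
  · have f1 : LVan.res L' (c ≫ p ≫ g₁) t₁' = r₁ • LVan.res L' (c ≫ p ≫ a₁) s' := by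
      rw [res_comp, res_comp, h3, map_smul, map_smul, ← res_comp, ← res_comp, Category.assoc]
    have f2 : LVan.res L' (c ≫ p ≫ g₁) t₂' = r₂ • LVan.res L' (c ≫ q ≫ a₂) s' := by
      rw [hpq, res_comp, res_comp, k3, map_smul, map_smul, ← res_comp, ← res_comp, Category.assoc]
    rw [map_add, f1, f2, e3, add_smul, smul_smul]

theorem Rel.eq_zero (hs : IsGen L s) {V : X.Etale} {t' : EtModW.sect Λ L' V}
    (h : Rel L L' s s' V 0 t') : t' = 0 := by
  refine sect_ext' L' fun v => ?_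
  obtain ⟨W, g, w, a, r, h1, h2, h3⟩ := h v
  refine ⟨W, g, w, h1, ?_⟩
  have hr : r = 0 := by
    apply (hs (a.left w)).1 r
    refine ⟨W, a, w, rfl, ?_⟩
    rw [map_zero] at h2
    rw [LinearMap.toSpanSingleton_apply, map_smul, ← h2]
  rw [h3, hr, zero_smul, map_zero]

theorem Rel.unique (hs : IsGen L s) (hc : Compat L L' s s') {V : X.Etale} {t : EtModW.sect Λ L V}
    {t₁ t₂ : EtModW.sect Λ L' V} (h₁ : Rel L L' s s' V t t₁) (h₂ : Rel L L' s s' V t t₂) : t₁ = t₂ := by
  rw [← sub_eq_zero]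
  apply Rel.eq_zero hs
  have h3 := Rel.add hc h₁ (Rel.smul (-1) h₂)
  rw [neg_one_smul, neg_one_smul, add_neg_cancel, ← sub_eq_add_neg] at h3
  exact h3

theorem Rel.of_local {V : X.Etale} {t : EtModW.sect Λ L V} {t' : EtModW.sect Λ L' V}
    (h : ∀ v : V.left, ∃ (W : X.Etale) (g : W ⟶ V) (w : W.left), g.left w = v ∧
      Rel L L' s s' W (LVan.res L g t) (LVan.res L' g t')) : Rel L L' s s' V t t' := by
  intro v
  obtain ⟨W, g, w, h1, h2⟩ := h v
  obtain ⟨W', g', w', a, r, e1, e2, e3⟩ := h2 w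
  refine ⟨W', g' ≫ g, w', a, r, ?_, ?_, ?_⟩
  · change g.left (g'.left w') = v
    rw [e1, h1]
  · rw [res_comp, e2]
  · rw [res_comp, e3]

theorem Rel.exists (hT : ∀ x : X, ∃ y : T.left, T.hom y = x) (hs : IsGen L s)
    (hc : Compat L L' s s') {V : X.Etale} (t : EtModW.sect Λ L V) :
    ∃ t' : EtModW.sect Λ L' V, Rel L L' s s' V t t' := by
  obtain ⟨t', ht'⟩ := exists_of_local L' V (fun W g z => Rel L L' s s' W (LVan.res L g t) z)
    (fun W W' g k z hz => by rw [res_comp]; exact hz.res k)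
    (fun W g z z' hz hz' => hz.unique hs hc hz')
    (fun v => by
      obtain ⟨y, hy⟩ := hT (V.hom v)
      obtain ⟨m, W, a, b, w, h1, h2, h3⟩ := (hs y).2.exists_of_sect t v hy.symm
      refine ⟨W, a, w, m • LVan.res L' b s', h1, fun z => ⟨W, 𝟙 W, z, b, m, rfl, ?_, ?_⟩⟩
      · rw [res_id, h3, LinearMap.toSpanSingleton_apply, map_smul]
      · rw [res_id])
  exact ⟨t', Rel.of_local ht'⟩

/-- The map determined by `s ↦ s'`. -/
noncomputable def relFun (hT : ∀ x : X, ∃ y : T.left, T.hom y = x) (hs : IsGen L s)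
    (hc : Compat L L' s s') (V : X.Etale) : EtModW.sect Λ L V →ₗ[Λ] EtModW.sect Λ L' V where
  toFun t := (Rel.exists hT hs hc t).choose
  map_add' t₁ t₂ := (Rel.exists hT hs hc (t₁ + t₂)).choose_spec.unique hs hc
    (Rel.add hc (Rel.exists hT hs hc t₁).choose_spec (Rel.exists hT hs hc t₂).choose_spec)
  map_smul' c t := (Rel.exists hT hs hc (c • t)).choose_spec.unique hs hc
    ((Rel.exists hT hs hc t).choose_spec.smul c)

theorem relFun_rel (hT : ∀ x : X, ∃ y : T.left, T.hom y = x) (hs : IsGen L s)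
    (hc : Compat L L' s s') (V : X.Etale) (t : EtModW.sect Λ L V) :
    Rel L L' s s' V t (relFun hT hs hc V t) := (Rel.exists hT hs hc t).choose_spec

/-- The morphism of sheaves determined by `s ↦ s'`. -/
noncomputable def relHom (hT : ∀ x : X, ∃ y : T.left, T.hom y = x) (hs : IsGen L s)
    (hc : Compat L L' s s') : L ⟶ L' where
  hom :=
    { app := fun V => ModuleCat.ofHom (relFun hT hs hc V.unop)
      naturality := fun V W k => by
        ext t
        exact (relFun_rel hT hs hc W.unop (LVan.res L k.unop t)).unique hs hc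
          ((relFun_rel hT hs hc V.unop t).res k.unop) }

theorem ev_relHom (hT : ∀ x : X, ∃ y : T.left, T.hom y = x) (hs : IsGen L s)
    (hc : Compat L L' s s') (V : X.Etale) (t : EtModW.sect Λ L V) :
    ev (relHom hT hs hc) V t = relFun hT hs hc V t := rfl

/-- The isomorphism determined by `s ↦ s'`. -/
noncomputable def relIso (hT : ∀ x : X, ∃ y : T.left, T.hom y = x) (hs : IsGen L s) (hs' : IsGen L' s')
    (hc : Compat L L' s s') : L ≅ L' where
  hom := relHom hT hs hc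
  inv := relHom hT hs' hc.symm
  hom_inv_id := by
    ext V t
    exact (relFun_rel hT hs' hc.symm V.unop (relFun hT hs hc V.unop t)).unique hs' hc.symm
      (relFun_rel hT hs hc V.unop t).symm
  inv_hom_id := by
    ext V t
    exact (relFun_rel hT hs hc V.unop (relFun hT hs' hc.symm V.unop t)).unique hs hc
      (relFun_rel hT hs' hc.symm V.unop t).symm

theorem Rel.self (s' : EtModW.sect Λ L' T) : Rel L L' s s' T s s' := fun v =>
  ⟨T, 𝟙 T, v, 𝟙 T, 1, rfl, (one_smul _ _).symm, (one_smul _ _).symm⟩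

theorem relIso_gen (hT : ∀ x : X, ∃ y : T.left, T.hom y = x) (hs : IsGen L s) (hs' : IsGen L' s')
    (hc : Compat L L' s s') : ev (relIso hT hs hs' hc).hom T s = s' :=
  (relFun_rel hT hs hc T s).unique hs hc (Rel.self s')

end Rel

section Act

variable {G : Type*} {T : X.Etale} (act : G → (T ⟶ T))

/-- The action `act` of `G` on `T` is locally transitive on the fibres. -/
def LocTrans : Prop :=
  ∀ (W : X.Etale) (a b : W ⟶ T) (w : W.left), ∃ (W' : X.Etale) (c : W' ⟶ W) (w' : W'.left) (g : G),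
    c.left w' = w ∧ c ≫ b = c ≫ a ≫ act g

/-- `L` has a free generator `s` over `T` with `g^* s = θ(g) s`. -/
def HasGen (L : EtModW.Mod Λ X) (T : X.Etale) {G : Type*} (act : G → (T ⟶ T)) (θ : G → Λ) : Prop :=
  ∃ s : EtModW.sect Λ L T, IsGen L s ∧ ∀ g, res L (act g) s = θ g • s

variable {act}

theorem compat_of_locTrans (hact : LocTrans act) {L L' : EtModW.Mod Λ X} {θ : G → Λ}
    {s : EtModW.sect Λ L T} {s' : EtModW.sect Λ L' T} (hs : ∀ g, res L (act g) s = θ g • s)
    (hs' : ∀ g, res L' (act g) s' = θ g • s') : Compat L L' s s' := by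
  intro W a b w
  obtain ⟨W', c, w', g, h1, h2⟩ := hact W a b w
  refine ⟨W', c, w', θ g, h1, ?_, ?_⟩
  · rw [h2, ← Category.assoc, res_comp, hs, map_smul]
  · rw [h2, ← Category.assoc, res_comp, hs', map_smul]

theorem HasGen.unique (hT : ∀ x : X, ∃ y : T.left, T.hom y = x) (hact : LocTrans act)
    {L L' : EtModW.Mod Λ X} {θ : G → Λ} (h : HasGen L T act θ) (h' : HasGen L' T act θ) :
    Nonempty (L ≅ L') := by
  obtain ⟨s, hs, hs2⟩ := h
  obtain ⟨s', hs', hs2'⟩ := h'
  exact ⟨relIso hT hs hs' (compat_of_locTrans hact hs2 hs2')⟩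

theorem HasGen.of_iso {L L' : EtModW.Mod Λ X} (e : L ≅ L') {θ : G → Λ} (h : HasGen L T act θ) :
    HasGen L' T act θ := by
  obtain ⟨s, hs, hs2⟩ := h
  have hinj : ∀ {V : X.Etale} (t : EtModW.sect Λ L V) (v : V.left), Van L' (ev e.hom V t) v → Van L t v := by
    intro V t v h
    have h1 := h.map e.inv
    have h2 : ev e.inv V (ev e.hom V t) = t := by
      have := congrArg (fun (q : L ⟶ L) => ev q V t) e.hom_inv_id
      exact this
    rwa [h2] at h1
  refine ⟨ev e.hom T s, fun y => ⟨fun m hm => ?_, fun V g v hv t => ?_⟩, fun g => ?_⟩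
  · apply (hs y).1 m
    apply hinj
    rw [LinearMap.toSpanSingleton_apply, map_smul]
    exact hm
  · obtain ⟨m, hm⟩ := (hs y).2 V g v hv (ev e.inv V t)
    refine ⟨m, ?_⟩
    have h1 := hm.map e.hom
    have h2 : ev e.hom V (ev e.inv V t) = t := by
      have := congrArg (fun (q : L' ⟶ L') => ev q V t) e.inv_hom_id
      exact this
    rw [map_sub, h2, ← res_ev, LinearMap.toSpanSingleton_apply, map_smul] at h1
    exact h1
  · rw [res_ev, hs2, map_smul]

/-- Restriction of a generator along an equivariant morphism. -/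
theorem HasGen.res {L : EtModW.Mod Λ X} {θ : G → Λ} (h : HasGen L T act θ) {T' : X.Etale} {G' : Type*}
    {act' : G' → (T' ⟶ T')} (π : T' ⟶ T) (φ : G' → G) (hπ : ∀ g, act' g ≫ π = π ≫ act (φ g)) :
    HasGen L T' act' (fun g => θ (φ g)) := by
  obtain ⟨s, hs, hs2⟩ := h
  refine ⟨LVan.res L π s, hs.res π, fun g => ?_⟩
  rw [← res_comp, hπ, res_comp, hs2, map_smul]

/-- Descent of a generator along a locally transitive covering. -/
theorem HasGen.desc {L : EtModW.Mod Λ X} {θ : G → Λ} {T' : X.Etale} {G' : Type*}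
    {act' : G' → (T' ⟶ T')} (π : T' ⟶ T) (hπs : ∀ t : T.left, ∃ t' : T'.left, π.left t' = t)
    (φ : G' → G) (hφ : Function.Surjective φ) (hπ : ∀ g, act' g ≫ π = π ≫ act (φ g))
    (hloc : ∀ (W : X.Etale) (a b : W ⟶ T') (w : W.left), a ≫ π = b ≫ π →
      ∃ (W' : X.Etale) (c : W' ⟶ W) (w' : W'.left) (g : G'), c.left w' = w ∧ θ (φ g) = 1 ∧
        c ≫ b = c ≫ a ≫ act' g)
    (h : HasGen L T' act' (fun g => θ (φ g))) : HasGen L T act θ := by
  obtain ⟨s', hs', hs2'⟩ := h
  obtain ⟨s, hs⟩ : ∃ s : EtModW.sect Λ L T, LVan.res L π s = s' := by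
    obtain ⟨s, hs⟩ := EqLocus.exists_glue (ab L) (fun _ : Unit => T') (fun _ => π)
      (fun t => ⟨(), hπs t⟩) (fun _ => toAb L s') (fun _ _ W a b hab => by
        change LVan.res L a s' = LVan.res L b s'
        refine sect_ext' L fun w => ?_
        obtain ⟨W', c, w', g, h1, h2, h3⟩ := hloc W a b w hab
        refine ⟨W', c, w', h1, ?_⟩
        have h4 : LVan.res L (act' g) s' = s' := by rw [hs2' g]; exact (congrArg (fun r => r • s') h2).trans (one_smul _ _)
        rw [← res_comp, ← res_comp, h3, ← Category.assoc, res_comp L (act' g), h4])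
    exact ⟨s, hs ()⟩
  subst hs
  refine ⟨s, hs'.of_res π hπs, fun g => ?_⟩
  obtain ⟨g', rfl⟩ := hφ g
  have h1 := hs2' g'
  rw [← res_comp, hπ, res_comp, ← map_smul] at h1
  refine sect_ext' L fun t => ?_
  obtain ⟨t', ht'⟩ := hπs t
  exact ⟨T', π, t', ht', h1⟩

end Act

section Pull

variable {Y : Scheme.{u}} (f : Y ⟶ X)

theorem IsGen.pull {L : EtModW.Mod Λ X} {T : X.Etale} {s : EtModW.sect Λ L T} (h : IsGen L s) :
    IsGen ((EtModW.pull Λ f).obj L) (LPull.eta f L T s) := by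
  intro y
  have h1 : sMap ((EtModW.pull Λ f).obj L) (LPull.eta f L T s) = (LPull.eta f L T).comp (sMap L s) := by
    ext
    simp
  rw [h1, LPull.injAt_eta_iff, LPull.surjAt_eta_iff]
  exact h _

theorem HasGen.pull {G : Type*} {L : EtModW.Mod Λ X} {T : X.Etale} {act : G → (T ⟶ T)} {θ : G → Λ}
    (h : HasGen L T act θ) :
    HasGen ((EtModW.pull Λ f).obj L) ((EtCoh.bc f).obj T) (fun g => (EtCoh.bc f).map (act g)) θ := by
  obtain ⟨s, hs, hs2⟩ := h
  refine ⟨LPull.eta f L T s, hs.pull f, fun g => ?_⟩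
  rw [LPull.res_eta, hs2, map_smul]

end Pull

end Groth.Agent.Sga4h.H918.Gen
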