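import Groth.Agent.Hensel.FiniteEtaleLift
import Groth.Prelude.Def_EtBase
import Mathlib.AlgebraicGeometry.Morphisms.Etale
import Mathlib.AlgebraicGeometry.AffineScheme
import Mathlib.RingTheory.Polynomial.Eisenstein.Basic
import Mathlib.RingTheory.Polynomial.GaussLemma

/-!
# The covering of the roots of a polynomial

`IsRoot π P x`: `π : T ⟶ X` is the universal `X`-scheme with a root `x` of `P ∈ Γ(X)[t]`.
-/

set_option autoImplicit false

universe u

open CategoryTheory CategoryTheory.Limits AlgebraicGeometry Polynomial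

namespace Groth.Agent.Sga4h.H918.Root

/-- `π : T ⟶ X` is the covering of the roots of `P`, with universal root `x`. -/
structure IsRoot {T X : Scheme.{u}} (π : T ⟶ X) (P : Γ(X, ⊤)[X]) (x : Γ(T, ⊤)) : Prop where
  eval_eq : P.eval₂ π.appTop.hom x = 0
  exists_lift : ∀ {Z : Scheme.{u}} (h : Z ⟶ X) (y : Γ(Z, ⊤)), P.eval₂ h.appTop.hom y = 0 →
    ∃ k : Z ⟶ T, k ≫ π = h ∧ k.appTop.hom x = y
  uniq : ∀ {Z : Scheme.{u}} (k k' : Z ⟶ T), k ≫ π = k' ≫ π → k.appTop.hom x = k'.appTop.hom x → k = k'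

section Construction

variable {X : Scheme.{u}} (P : Γ(X, ⊤)[X])

/-- The ring `Γ(X)[t]/P`. -/
noncomputable abbrev B : CommRingCat.{u} := CommRingCat.of (AdjoinRoot P)

/-- The map `Γ(X) ⟶ Γ(X)[t]/P`. -/
noncomputable def of : Γ(X, ⊤) ⟶ B P := CommRingCat.ofHom (AdjoinRoot.of P)

/-- The covering. -/
noncomputable def T : Scheme.{u} := pullback (Spec.map (of P)) X.toSpecΓ

/-- The structure morphism. -/
noncomputable def π : T P ⟶ X := pullback.snd _ _

/-- The other projection. -/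
noncomputable def ρ : T P ⟶ Spec (B P) := pullback.fst _ _

theorem ρ_comp : ρ P ≫ Spec.map (of P) = π P ≫ X.toSpecΓ := pullback.condition

/-- The universal root. -/
noncomputable def x : Γ(T P, ⊤) :=
  (ρ P).appTop.hom ((Scheme.ΓSpecIso (B P)).inv.hom (AdjoinRoot.root P))

variable {P}

theorem appTop_of {Z : Scheme.{u}} (k : Z ⟶ Spec (B P)) (h : Z ⟶ X)
    (w : k ≫ Spec.map (of P) = h ≫ X.toSpecΓ) (a : Γ(X, ⊤)) :
    k.appTop.hom ((Scheme.ΓSpecIso (B P)).inv.hom (AdjoinRoot.of P a)) = h.appTop.hom a := by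
  have h1 : of P ≫ (Scheme.ΓSpecIso (B P)).inv ≫ k.appTop = h.appTop := by
    have h2 := congrArg (fun k => (Scheme.ΓSpecIso Γ(X, ⊤)).inv ≫ Scheme.Hom.appTop k) w
    simp only [Scheme.Hom.comp_appTop] at h2
    rw [Scheme.ΓSpecIso_inv_naturality_assoc, h2, Scheme.toSpecΓ_appTop, Iso.inv_hom_id_assoc]
  exact congrArg (fun k => k.hom a) h1

theorem isRoot : IsRoot (π P) P (x P) where
  eval_eq := by
    have h1 : ((ρ P).appTop.hom.comp (Scheme.ΓSpecIso (B P)).inv.hom).comp (AdjoinRoot.of P) =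
        (π P).appTop.hom := by
      ext a
      exact appTop_of _ _ (ρ_comp P) a
    rw [← h1]
    unfold x
    change eval₂ _ (((ρ P).appTop.hom.comp (Scheme.ΓSpecIso (B P)).inv.hom) (AdjoinRoot.root P)) P = 0
    rw [← Polynomial.hom_eval₂, AdjoinRoot.eval₂_root, map_zero]
  exists_lift {Z} h y hy := by
    let φ : AdjoinRoot P →+* Γ(Z, ⊤) := AdjoinRoot.lift h.appTop.hom y hy
    let k₀ : Z ⟶ Spec (B P) := Z.toSpecΓ ≫ Spec.map (CommRingCat.ofHom φ)
    have hk₀ : k₀ ≫ Spec.map (of P) = h ≫ X.toSpecΓ := by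
      have h1 : of P ≫ CommRingCat.ofHom φ = h.appTop := by
        ext a
        exact AdjoinRoot.lift_of hy
      change (Z.toSpecΓ ≫ Spec.map (CommRingCat.ofHom φ)) ≫ Spec.map (of P) = _
      rw [Category.assoc, ← Spec.map_comp, h1, Scheme.toSpecΓ_naturality]
    obtain ⟨k, h2, h2'⟩ : ∃ k : Z ⟶ T P, k ≫ ρ P = k₀ ∧ k ≫ π P = h :=
      ⟨pullback.lift k₀ h hk₀, pullback.lift_fst _ _ _, pullback.lift_snd _ _ _⟩
    refine ⟨k, h2', ?_⟩
    have h3 : (Scheme.ΓSpecIso (B P)).inv ≫ k₀.appTop = CommRingCat.ofHom φ := by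
      change _ ≫ (Z.toSpecΓ ≫ Spec.map (CommRingCat.ofHom φ)).appTop = _
      rw [Scheme.Hom.comp_appTop, ← Scheme.ΓSpecIso_inv_naturality_assoc, Scheme.toSpecΓ_appTop,
        Iso.inv_hom_id, Category.comp_id]
    unfold x
    have h4 : (ρ P).appTop ≫ k.appTop = k₀.appTop := by
      rw [← Scheme.Hom.comp_appTop, h2]
    refine (congrArg (fun k => k.hom ((Scheme.ΓSpecIso (B P)).inv.hom
      (AdjoinRoot.root P))) h4).trans ?_
    refine (congrArg (fun k => k.hom (AdjoinRoot.root P)) h3).trans ?_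
    exact AdjoinRoot.lift_root hy
  uniq {Z} k k' h hx := by
    refine pullback.hom_ext ?_ h
    change k ≫ ρ P = k' ≫ ρ P
    apply ext_of_isAffine
    rw [← cancel_epi (Scheme.ΓSpecIso (B P)).inv]
    apply CommRingCat.hom_ext
    apply AdjoinRoot.ringHom_ext
    · ext a
      have h1 := appTop_of (k ≫ ρ P) (k ≫ π P) (by rw [Category.assoc, ρ_comp, Category.assoc]) a
      have h2 := appTop_of (k' ≫ ρ P) (k' ≫ π P) (by rw [Category.assoc, ρ_comp, Category.assoc]) a
      exact h1.trans ((congrArg (fun k => k.appTop.hom a) h).trans h2.symm)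
    · unfold x at hx
      rw [Scheme.Hom.comp_appTop, Scheme.Hom.comp_appTop]
      exact hx

theorem etale (hm : P.Monic) (hs : P.Separable) : Etale (π P) := by
  have h2 : Algebra.Etale Γ(X, ⊤) (AdjoinRoot P) :=
    Hensel.FiniteEtaleLift.etale_adjoinRoot _ hm hs
  have h3 : Etale (Spec.map (of P)) := by
    rw [HasRingHomProperty.Spec_iff (P := @Etale)]
    exact RingHom.etale_algebraMap.2 h2
  exact inferInstanceAs (Etale (pullback.snd (Spec.map (of P)) X.toSpecΓ))

end Construction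

section Surj

variable {T X : Scheme.{u}} {π : T ⟶ X} {P : Γ(X, ⊤)[X]} {x : Γ(T, ⊤)}

/-- Every point of `X` lifts when `P` is monic of positive degree. -/
theorem IsRoot.surjective (h : IsRoot π P x) (hm : P.Monic) (hd : P.natDegree ≠ 0) (p : X) :
    ∃ t : T, π t = p := by
  let K : Type u := AlgebraicClosure (X.residueField p)
  let φ : X.residueField p ⟶ CommRingCat.of K := CommRingCat.ofHom (algebraMap (X.residueField p) K)
  let s : Spec (CommRingCat.of K) ⟶ X := Spec.map φ ≫ X.fromSpecResidueField p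
  let e : Γ(X, ⊤) →+* K := (Scheme.ΓSpecIso (CommRingCat.of K)).hom.hom.comp s.appTop.hom
  obtain ⟨a, ha⟩ : ∃ a : K, (P.map e).eval a = 0 := by
    apply IsAlgClosed.exists_root
    rw [hm.degree_map]
    intro h0
    exact hd (Polynomial.natDegree_eq_of_degree_eq_some h0)
  let y : Γ(Spec (CommRingCat.of K), ⊤) := (Scheme.ΓSpecIso (CommRingCat.of K)).inv.hom a
  have hy : P.eval₂ s.appTop.hom y = 0 := by
    rw [eval_map] at ha
    have h1 := congrArg (Scheme.ΓSpecIso (CommRingCat.of K)).inv.hom ha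
    rw [map_zero, hom_eval₂] at h1
    have h2 : (Scheme.ΓSpecIso (CommRingCat.of K)).inv.hom.comp e = s.appTop.hom := by
      ext b
      change ((Scheme.ΓSpecIso (CommRingCat.of K)).hom ≫ (Scheme.ΓSpecIso (CommRingCat.of K)).inv) (s.appTop b) = _
      rw [Iso.hom_inv_id]
      rfl
    rw [h2] at h1
    exact h1
  obtain ⟨k, hk1, hk2⟩ := h.exists_lift s y hy
  let c : Spec (CommRingCat.of K) := IsLocalRing.closedPoint K
  refine ⟨k c, ?_⟩
  rw [← Scheme.Hom.comp_apply, hk1]
  change (X.fromSpecResidueField p) ((Spec.map φ) c) = p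
  exact Scheme.fromSpecResidueField_apply p _

end Surj

end Groth.Agent.Sga4h.H918.Root
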