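import Groth.Agent.Sga4h.H918.Gen
import Groth.Agent.Etbase.EtSections

/-!
# Subsheaves of sheaves of modules given by local conditions
-/

set_option autoImplicit false
universe u

open CategoryTheory CategoryTheory.Limits AlgebraicGeometry Opposite

namespace Groth.Agent.Sga4h.H918.SubMod

open Groth.Agent.Etbase Groth.Agent.Etcore Groth.Agent.EtpbcA Groth.Agent.Etcore.LVan

variable {Λ : Type (u + 1)} [CommRing Λ] {X : Scheme.{u}}

/-- A local condition on the sections of a sheaf of modules. -/
structure LocCond (B : EtModW.Mod Λ X) where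
  /-- the sections satisfying the condition -/
  S : ∀ U : X.Etale, Submodule Λ (EtModW.sect Λ B U)
  res_mem : ∀ {U V : X.Etale} (g : V ⟶ U) {s : EtModW.sect Λ B U}, s ∈ S U → res B g s ∈ S V
  of_local : ∀ {U : X.Etale} {s : EtModW.sect Λ B U}, (∀ x : U.left, ∃ (V : X.Etale) (g : V ⟶ U) (v : V.left),
    g.left v = x ∧ res B g s ∈ S V) → s ∈ S U

variable {B : EtModW.Mod Λ X} (C : LocCond B)

/-- The subpresheaf of sections satisfying the condition. -/
noncomputable def pre : X.Etaleᵒᵖ ⥤ ModuleCat.{u + 1} Λ where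
  obj U := ModuleCat.of Λ (C.S U.unop)
  map g := ModuleCat.ofHom (((res B g.unop).comp (C.S _).subtype).codRestrict (C.S _)
    (fun s => C.res_mem g.unop s.2))
  map_id U := by
    ext s
    exact res_id B s.1
  map_comp {U V W} g h := by
    ext s
    exact res_comp B g.unop h.unop s.1

theorem isSheaf_pre : Presheaf.IsSheaf X.smallEtaleTopology (pre C) := by
  rw [Presheaf.isSheaf_iff_isSheaf_forget _ _ (forget (ModuleCat.{u + 1} Λ)), isSheaf_iff_isSheaf_of_type]
  intro U R hR
  rw [← Presieve.isSeparatedFor_and_exists_isAmalgamation_iff_isSheafFor]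
  rw [EtSite.mem_iff] at hR
  constructor
  · intro x s t hs ht
    apply Subtype.ext
    refine Gen.sect_ext' B fun y => ?_
    obtain ⟨V, g, v, hg, hv⟩ := hR y
    refine ⟨V, g, v, hv, ?_⟩
    exact congrArg Subtype.val ((hs g hg).trans (ht g hg).symm)
  · intro x hx
    obtain ⟨t, ht⟩ := EtSections.exists_glue (ab B) U R hR (fun V g hg => toAb B (x g hg).1)
      (fun V W g hg k hk => by
        have h1 := (Presieve.compatible_iff_sieveCompatible x).1 hx g k hg
        exact (congrArg Subtype.val h1).symm)
    have ht' : ∀ (V : X.Etale) (g : V ⟶ U) (hg : R g), res B g t = (x g hg).1 := ht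
    have hmem : t ∈ C.S U := C.of_local fun y => by
      obtain ⟨V, g, v, hg, hv⟩ := hR y
      refine ⟨V, g, v, hv, ?_⟩
      rw [ht' V g hg]
      exact (x g hg).2
    refine ⟨⟨t, hmem⟩, fun V g hg => ?_⟩
    exact Subtype.ext (ht' V g hg)

/-- The subsheaf of sections satisfying the condition. -/
noncomputable def sub : EtModW.Mod Λ X := ⟨pre C, isSheaf_pre C⟩

/-- The inclusion. -/
noncomputable def ι : sub C ⟶ B where
  hom :=
    { app := fun U => ModuleCat.ofHom (C.S U.unop).subtype
      naturality := fun U V g => by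
        ext s
        rfl }

theorem ev_ι (U : X.Etale) (s : EtModW.sect Λ (sub C) U) :
    ev (ι C) U s = (s : C.S U).1 := rfl

theorem mem (U : X.Etale) (s : EtModW.sect Λ (sub C) U) : ev (ι C) U s ∈ C.S U := (s : C.S U).2

/-- A section satisfying the condition. -/
noncomputable def mk {U : X.Etale} (s : EtModW.sect Λ B U) (h : s ∈ C.S U) : EtModW.sect Λ (sub C) U :=
  (⟨s, h⟩ : C.S U)

theorem ev_ι_mk {U : X.Etale} (s : EtModW.sect Λ B U) (h : s ∈ C.S U) : ev (ι C) U (mk C s h) = s := rfl

theorem ev_ι_injective (U : X.Etale) : Function.Injective (ev (ι C) U) := fun _ _ h => Subtype.ext h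

end Groth.Agent.Sga4h.H918.SubMod
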