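import Groth.Agent.Sga4h.H918.SubMod
import Groth.Agent.Sga4h.X144Nrm

/-!
# The rank one sheaf of a torsor and a character

For `T → X` étale with a free, locally transitive action of a group `G` and `θ : G →* Λˣ`:
* `tw A θ` : the sheaf `W ↦ {f : W ×_X T → Λ locally constant | f(w, g t) = θ(g)⁻¹ f(w, t)}`;
* `hasGen_tw` : it has a free generator `s` over `T` with `g^* s = θ(g) s`.
-/

set_option autoImplicit false
universe u

open CategoryTheory CategoryTheory.Limits AlgebraicGeometry Opposite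

namespace Groth.Agent.Sga4h.H918.Tw

open Groth.Agent.Etbase Groth.Agent.Etcore Groth.Agent.EtpbcA Groth.Agent.Etcore.LVan
open Groth.Agent.Sga4h.H918.Gen Groth.Agent.Sga4h.H918.SubMod Groth.Agent.Sga4h.X144Nrm
open Groth.Agent.Sga4B.ConstLC (cmap)

variable {Λ : Type (u + 1)} [CommRing Λ] {X : Scheme.{u}}

/-- A free and locally transitive action of `G` on the étale `X`-scheme `T`. -/
structure TorsAct (T : X.Etale) (G : Type*) [Group G] where
  /-- the action -/
  act : G → (T ⟶ T)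
  act_one : act 1 = 𝟙 T
  act_mul : ∀ g h, act (g * h) = act g ≫ act h
  trans : LocTrans act
  free : ∀ (W : X.Etale) (a : W ⟶ T) (_ : W.left) (g h : G), a ≫ act g = a ≫ act h → g = h

section Prod

variable (T W : X.Etale)

/-- The fibre product `W ×_X T` in the étale site of `X`. -/
noncomputable def PT : X.Etale :=
  haveI : Etale W.hom := W.prop
  haveI : Etale T.hom := T.prop
  Scheme.Etale.mk (pullback.fst W.hom T.hom ≫ W.hom)

/-- first projection -/
noncomputable def p1 : PT T W ⟶ W := MorphismProperty.Over.homMk (A := PT T W) (pullback.fst W.hom T.hom) rfl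

/-- second projection -/
noncomputable def p2 : PT T W ⟶ T :=
  MorphismProperty.Over.homMk (A := PT T W) (pullback.snd W.hom T.hom) pullback.condition.symm

variable {T W}

/-- The morphism `(a, b)` to the fibre product. -/
noncomputable def plift {V : X.Etale} (a : V ⟶ W) (b : V ⟶ T) : V ⟶ PT T W :=
  MorphismProperty.Over.homMk (B := PT T W) (pullback.lift a.left b.left
    ((MorphismProperty.Over.w a).trans (MorphismProperty.Over.w b).symm))
    (by
      change pullback.lift a.left b.left _ ≫ (pullback.fst W.hom T.hom ≫ W.hom) = _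
      rw [pullback.lift_fst_assoc]
      exact MorphismProperty.Over.w a)

theorem plift_p1 {V : X.Etale} (a : V ⟶ W) (b : V ⟶ T) : plift a b ≫ p1 T W = a :=
  MorphismProperty.Over.Hom.ext (pullback.lift_fst _ _ _)

theorem plift_p2 {V : X.Etale} (a : V ⟶ W) (b : V ⟶ T) : plift a b ≫ p2 T W = b :=
  MorphismProperty.Over.Hom.ext (pullback.lift_snd _ _ _)

theorem phom_ext {V : X.Etale} {a b : V ⟶ PT T W} (h1 : a ≫ p1 T W = b ≫ p1 T W)
    (h2 : a ≫ p2 T W = b ≫ p2 T W) : a = b :=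
  MorphismProperty.Over.Hom.ext (pullback.hom_ext (congrArg (fun q => q.left) h1) (congrArg (fun q => q.left) h2))

end Prod

section Base

variable (Λ) (T : X.Etale)

/-- The sheaf of locally constant functions on `W ×_X T`. -/
noncomputable def base : EtModW.Mod Λ X :=
  (EtModW.push Λ (show T.left ⟶ X from T.hom)).obj (LCM Λ (show Scheme.{u} from T.left) Λ)

variable {Λ T} {W : X.Etale}

/-- A section as a function. -/
noncomputable def fn (f : EtModW.sect Λ (base Λ T) W) : LocallyConstant (PT T W).left Λ := f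

/-- A function as a section. -/
noncomputable def ofFn (f : LocallyConstant (PT T W).left Λ) : EtModW.sect Λ (base Λ T) W := f

/-- The value of a section at the point `(a(v), b(v))`. -/
noncomputable def evl (f : EtModW.sect Λ (base Λ T) W) {V : X.Etale} (a : V ⟶ W) (b : V ⟶ T) (v : V.left) : Λ :=
  fn f ((plift a b).left v)

theorem evl_comp (f : EtModW.sect Λ (base Λ T) W) {V V' : X.Etale} (c : V' ⟶ V) (a : V ⟶ W) (b : V ⟶ T)
    (v : V'.left) : evl f (c ≫ a) (c ≫ b) v = evl f a b (c.left v) := by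
  have h : plift (c ≫ a) (c ≫ b) = c ≫ plift a b := phom_ext
    (by rw [plift_p1, Category.assoc, plift_p1]) (by rw [plift_p2, Category.assoc, plift_p2])
  unfold evl
  rw [h]
  rfl

theorem evl_res (f : EtModW.sect Λ (base Λ T) W) {W' : X.Etale} (k : W' ⟶ W) {V : X.Etale} (a : V ⟶ W')
    (b : V ⟶ T) (v : V.left) : evl (res (base Λ T) k f) a b v = evl f (a ≫ k) b v := by
  have h : (plift a b).left ≫ ((EtCoh.bc (show T.left ⟶ X from T.hom)).map k).left = (plift (a ≫ k) b).left := by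
    apply pullback.hom_ext
    · have e : ((EtCoh.bc (show T.left ⟶ X from T.hom)).map k).left ≫ pullback.fst W.hom T.hom =
          pullback.fst W'.hom T.hom ≫ k.left := (EtCoh.isPullback_bc_map (show T.left ⟶ X from T.hom) k).w
      have e1 : (plift a b).left ≫ pullback.fst W'.hom T.hom = a.left := pullback.lift_fst _ _ _
      have e2 : (plift (a ≫ k) b).left ≫ pullback.fst W.hom T.hom = (a ≫ k).left := pullback.lift_fst _ _ _
      refine (Category.assoc _ _ _).trans (Eq.trans ?_ e2.symm)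
      refine (congrArg (fun q => (plift a b).left ≫ q) e).trans ?_
      refine (Category.assoc _ _ _).symm.trans ?_
      exact congrArg (fun q => q ≫ k.left) e1
    · have e3 : ((EtCoh.bc (show T.left ⟶ X from T.hom)).map k).left ≫ pullback.snd W.hom T.hom =
          pullback.snd W'.hom T.hom := by
        dsimp [EtCoh.bc]
        exact pullback.lift_snd _ _ _
      have e1 : (plift a b).left ≫ pullback.snd W'.hom T.hom = b.left := pullback.lift_snd _ _ _
      have e2 : (plift (a ≫ k) b).left ≫ pullback.snd W.hom T.hom = b.left := pullback.lift_snd _ _ _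
      refine (Category.assoc _ _ _).trans (Eq.trans ?_ e2.symm)
      exact (congrArg (fun q => (plift a b).left ≫ q) e3).trans e1
  unfold evl
  exact congrArg (fun q => fn f (q v)) h

theorem evl_add (f g : EtModW.sect Λ (base Λ T) W) {V : X.Etale} (a : V ⟶ W) (b : V ⟶ T) (v : V.left) :
    evl (f + g) a b v = evl f a b v + evl g a b v := rfl

theorem evl_smul (r : Λ) (f : EtModW.sect Λ (base Λ T) W) {V : X.Etale} (a : V ⟶ W) (b : V ⟶ T) (v : V.left) :
    evl (r • f) a b v = r * evl f a b v := rfl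

theorem evl_zero {V : X.Etale} (a : V ⟶ W) (b : V ⟶ T) (v : V.left) :
    evl (0 : EtModW.sect Λ (base Λ T) W) a b v = 0 := rfl

theorem evl_ext {f g : EtModW.sect Λ (base Λ T) W}
    (h : ∀ (V : X.Etale) (a : V ⟶ W) (b : V ⟶ T) (v : V.left), evl f a b v = evl g a b v) : f = g := by
  refine LocallyConstant.ext (f := fn f) (g := fn g) fun z => ?_
  have h1 := h (PT T W) (p1 T W) (p2 T W) z
  have h2 : plift (p1 T W) (p2 T W) = 𝟙 _ := phom_ext
    (by rw [plift_p1, Category.id_comp]) (by rw [plift_p2, Category.id_comp])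
  unfold evl at h1
  rw [h2] at h1
  exact h1

/-- Functions are locally constant. -/
theorem evl_local (f : EtModW.sect Λ (base Λ T) W) {V : X.Etale} (a : V ⟶ W) (b : V ⟶ T) (v : V.left) :
    ∃ (V' : X.Etale) (c : V' ⟶ V) (v' : V'.left), c.left v' = v ∧
      ∀ w : V'.left, evl f (c ≫ a) (c ≫ b) w = evl f a b v := by
  let F : LocallyConstant V.left Λ := (fn f).comap (cmap (plift a b).left)
  let N : V.left.Opens := ⟨F ⁻¹' {F v}, F.isLocallyConstant {F v}⟩
  refine ⟨Groth.Agent.Sga4B.ConstLC.openSub V N, Groth.Agent.Sga4B.ConstLC.openSubι V N, ⟨v, rfl⟩, rfl, ?_⟩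
  intro w
  rw [evl_comp]
  exact w.2

/-- Construction of sections from natural locally constant functions. -/
theorem exists_evl (F : ∀ (V : X.Etale) (_ : V ⟶ W) (_ : V ⟶ T), V.left → Λ)
    (hF : ∀ (V V' : X.Etale) (c : V' ⟶ V) (a : V ⟶ W) (b : V ⟶ T) (v : V'.left),
      F V' (c ≫ a) (c ≫ b) v = F V a b (c.left v))
    (hloc : ∀ (V : X.Etale) (a : V ⟶ W) (b : V ⟶ T) (v : V.left), ∃ (V' : X.Etale) (c : V' ⟶ V) (v' : V'.left),
      c.left v' = v ∧ ∀ w : V'.left, F V' (c ≫ a) (c ≫ b) w = F V a b v) :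
    ∃ f : EtModW.sect Λ (base Λ T) W, ∀ (V : X.Etale) (a : V ⟶ W) (b : V ⟶ T) (v : V.left),
      evl f a b v = F V a b v := by
  have hlc : IsLocallyConstant (F (PT T W) (p1 T W) (p2 T W)) := by
    rw [IsLocallyConstant.iff_exists_open]
    intro z
    obtain ⟨V', c, v', hc, hw⟩ := hloc (PT T W) (p1 T W) (p2 T W) z
    refine ⟨Set.range c.left, (Cover.isOpenMap_left c).isOpen_range, ⟨v', hc⟩, ?_⟩
    rintro _ ⟨w, rfl⟩
    rw [← hF, hw]
  refine ⟨ofFn ⟨_, hlc⟩, fun V a b v => ?_⟩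
  change F (PT T W) (p1 T W) (p2 T W) ((plift a b).left v) = _
  rw [← hF, plift_p1, plift_p2]

end Base

section Index

variable {T : X.Etale} {G : Type*} [Group G] (A : TorsAct T G)

theorem exists_idx {V : X.Etale} (a b : V ⟶ T) (v : V.left) : ∃ g : G, ∃ (V' : X.Etale) (c : V' ⟶ V)
    (v' : V'.left), c.left v' = v ∧ c ≫ b = c ≫ a ≫ A.act g := by
  obtain ⟨V', c, v', g, h1, h2⟩ := A.trans V a b v
  exact ⟨g, V', c, v', h1, h2⟩

/-- The element `g` with `b = g a` near `v`. -/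
noncomputable def idx {V : X.Etale} (a b : V ⟶ T) (v : V.left) : G := (exists_idx A a b v).choose

theorem idx_spec {V : X.Etale} (a b : V ⟶ T) (v : V.left) : ∃ (V' : X.Etale) (c : V' ⟶ V)
    (v' : V'.left), c.left v' = v ∧ c ≫ b = c ≫ a ≫ A.act (idx A a b v) := (exists_idx A a b v).choose_spec

theorem idx_eq {V V' : X.Etale} (a b : V ⟶ T) (c : V' ⟶ V) (v' : V'.left) (g : G)
    (h : c ≫ b = c ≫ a ≫ A.act g) : idx A a b (c.left v') = g := by
  obtain ⟨V₁, c₁, v₁, h1, h2⟩ := idx_spec A a b (c.left v')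
  obtain ⟨P, p, q, z, hpq, hz1, hz2⟩ := EtSite.exists_pullback c₁ c v₁ v' h1
  apply A.free P (p ≫ c₁ ≫ a) z
  calc (p ≫ c₁ ≫ a) ≫ A.act (idx A a b (c.left v')) = p ≫ c₁ ≫ b := by rw [h2]; simp
    _ = q ≫ c ≫ b := by rw [← Category.assoc, hpq, Category.assoc]
    _ = q ≫ c ≫ a ≫ A.act g := by rw [h]
    _ = (p ≫ c₁ ≫ a) ≫ A.act g := by
      rw [← Category.assoc q c, ← hpq]
      simp

theorem idx_eq' {V : X.Etale} (a b : V ⟶ T) (v : V.left) (g : G)
    (h : b = a ≫ A.act g) : idx A a b v = g :=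
  idx_eq A a b (𝟙 V) v g (by rw [Category.id_comp, Category.id_comp, h])

theorem idx_self {V : X.Etale} (a : V ⟶ T) (v : V.left) : idx A a a v = 1 :=
  idx_eq' A a a v 1 (by rw [A.act_one, Category.comp_id])

theorem idx_comp {V V' : X.Etale} (c : V' ⟶ V) (a b : V ⟶ T) (v : V'.left) :
    idx A (c ≫ a) (c ≫ b) v = idx A a b (c.left v) := by
  obtain ⟨V₁, c₁, v₁, h1, h2⟩ := idx_spec A a b (c.left v)
  obtain ⟨P, p, q, z, hpq, hz1, hz2⟩ := EtSite.exists_pullback c₁ c v₁ v h1
  subst hz2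
  apply idx_eq A (c ≫ a) (c ≫ b) q z
  rw [← Category.assoc q c, ← hpq, Category.assoc, h2]
  simp only [← Category.assoc]
  rw [hpq]

theorem idx_local {V : X.Etale} (a b : V ⟶ T) (v : V.left) : ∃ (V' : X.Etale) (c : V' ⟶ V)
    (v' : V'.left), c.left v' = v ∧ ∀ w : V'.left, idx A (c ≫ a) (c ≫ b) w = idx A a b v := by
  obtain ⟨V₁, c₁, v₁, h1, h2⟩ := idx_spec A a b v
  refine ⟨V₁, c₁, v₁, h1, fun w => ?_⟩
  rw [idx_comp]
  exact idx_eq A a b c₁ w _ h2

end Index

section Twist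

variable {T : X.Etale} {G : Type*} [Group G] (A : TorsAct T G) (θ : G →* Λˣ)

/-- The condition `f(w, g t) = θ(g)⁻¹ f(w, t)`. -/
noncomputable def cond : LocCond (base Λ T) where
  S W :=
    { carrier := {f | ∀ (V : X.Etale) (a : V ⟶ W) (b : V ⟶ T) (v : V.left) (g : G),
        evl f a (b ≫ A.act g) v = ((θ g)⁻¹ : Λˣ) * evl f a b v}
      add_mem' := fun {f f'} hf hf' V a b v g => by rw [evl_add, evl_add, hf, hf', mul_add]
      zero_mem' := fun V a b v g => by rw [evl_zero, evl_zero, mul_zero]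
      smul_mem' := fun r f hf V a b v g => by rw [evl_smul, evl_smul, hf, mul_left_comm] }
  res_mem {U V} k f hf := fun V' a b v g => by
    rw [evl_res, evl_res]
    exact hf _ _ _ _ _
  of_local {U f} hf := fun V a b v g => by
    obtain ⟨W, k, w, hw, hk⟩ := hf (a.left v)
    obtain ⟨P, p, q, z, hpq, hz1, hz2⟩ := EtSite.exists_pullback a k v w hw.symm
    have h1 := hk P q (p ≫ b) z g
    rw [evl_res, evl_res, ← hpq, evl_comp, Category.assoc, evl_comp, hz1] at h1
    exact h1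

/-- The sheaf `W ↦ {f : W ×_X T → Λ | f(w, g t) = θ(g)⁻¹ f(w, t)}`. -/
noncomputable def tw : EtModW.Mod Λ X := sub (cond A θ)

/-- the inclusion -/
noncomputable def twι : tw A θ ⟶ base Λ T := ι (cond A θ)

variable {A θ}

/-- values of sections of `tw` -/
noncomputable def tevl {W : X.Etale} (f : EtModW.sect Λ (tw A θ) W) {V : X.Etale} (a : V ⟶ W) (b : V ⟶ T)
    (v : V.left) : Λ := evl (ev (twι A θ) W f) a b v

theorem tevl_comp {W : X.Etale} (f : EtModW.sect Λ (tw A θ) W) {V V' : X.Etale} (c : V' ⟶ V) (a : V ⟶ W) (b : V ⟶ T)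
    (v : V'.left) : tevl f (c ≫ a) (c ≫ b) v = tevl f a b (c.left v) := evl_comp _ _ _ _ _

theorem tevl_res {W : X.Etale} (f : EtModW.sect Λ (tw A θ) W) {W' : X.Etale} (k : W' ⟶ W) {V : X.Etale}
    (a : V ⟶ W') (b : V ⟶ T) (v : V.left) : tevl (res (tw A θ) k f) a b v = tevl f (a ≫ k) b v := by
  unfold tevl
  rw [← res_ev, evl_res]

theorem tevl_add {W : X.Etale} (f g : EtModW.sect Λ (tw A θ) W) {V : X.Etale} (a : V ⟶ W) (b : V ⟶ T)
    (v : V.left) : tevl (f + g) a b v = tevl f a b v + tevl g a b v := by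
  unfold tevl; rw [map_add, evl_add]

theorem tevl_smul {W : X.Etale} (r : Λ) (f : EtModW.sect Λ (tw A θ) W) {V : X.Etale} (a : V ⟶ W) (b : V ⟶ T)
    (v : V.left) : tevl (r • f) a b v = r * tevl f a b v := by
  unfold tevl; rw [map_smul, evl_smul]

theorem tevl_zero {W : X.Etale} {V : X.Etale} (a : V ⟶ W) (b : V ⟶ T) (v : V.left) :
    tevl (0 : EtModW.sect Λ (tw A θ) W) a b v = 0 := by
  unfold tevl; rw [map_zero, evl_zero]

theorem tevl_act {W : X.Etale} (f : EtModW.sect Λ (tw A θ) W) {V : X.Etale} (a : V ⟶ W) (b : V ⟶ T)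
    (v : V.left) (g : G) : tevl f a (b ≫ A.act g) v = ((θ g)⁻¹ : Λˣ) * tevl f a b v :=
  mem (cond A θ) W f V a b v g

theorem tevl_ext {W : X.Etale} {f g : EtModW.sect Λ (tw A θ) W}
    (h : ∀ (V : X.Etale) (a : V ⟶ W) (b : V ⟶ T) (v : V.left), tevl f a b v = tevl g a b v) : f = g :=
  ev_ι_injective (cond A θ) W (evl_ext h)

theorem tevl_local {W : X.Etale} (f : EtModW.sect Λ (tw A θ) W) {V : X.Etale} (a : V ⟶ W) (b : V ⟶ T) (v : V.left) :
    ∃ (V' : X.Etale) (c : V' ⟶ V) (v' : V'.left), c.left v' = v ∧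
      ∀ w : V'.left, tevl f (c ≫ a) (c ≫ b) w = tevl f a b v := evl_local _ _ _ _

theorem exists_tevl (A : TorsAct T G) (θ : G →* Λˣ) {W : X.Etale} (F : ∀ (V : X.Etale) (_ : V ⟶ W) (_ : V ⟶ T), V.left → Λ)
    (hF : ∀ (V V' : X.Etale) (c : V' ⟶ V) (a : V ⟶ W) (b : V ⟶ T) (v : V'.left),
      F V' (c ≫ a) (c ≫ b) v = F V a b (c.left v))
    (hloc : ∀ (V : X.Etale) (a : V ⟶ W) (b : V ⟶ T) (v : V.left), ∃ (V' : X.Etale) (c : V' ⟶ V) (v' : V'.left),
      c.left v' = v ∧ ∀ w : V'.left, F V' (c ≫ a) (c ≫ b) w = F V a b v)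
    (hθ : ∀ (V : X.Etale) (a : V ⟶ W) (b : V ⟶ T) (v : V.left) (g : G),
      F V a (b ≫ A.act g) v = ((θ g)⁻¹ : Λˣ) * F V a b v) :
    ∃ f : EtModW.sect Λ (tw A θ) W, ∀ (V : X.Etale) (a : V ⟶ W) (b : V ⟶ T) (v : V.left),
      tevl f a b v = F V a b v := by
  obtain ⟨f, hf⟩ := exists_evl (T := T) F hF hloc
  refine ⟨mk (cond A θ) f fun V a b v g => by rw [hf, hf, hθ], fun V a b v => ?_⟩
  exact hf V a b v

variable (A θ)

theorem exists_gen : ∃ s : EtModW.sect Λ (tw A θ) T, ∀ (V : X.Etale) (a b : V ⟶ T) (v : V.left),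
    tevl s a b v = ((θ (idx A a b v))⁻¹ : Λˣ) := by
  refine exists_tevl A θ (fun V a b v => (((θ (idx A a b v))⁻¹ : Λˣ) : Λ)) ?_ ?_ ?_
  · intro V V' c a b v
    rw [idx_comp]
  · intro V a b v
    obtain ⟨V', c, v', h1, h2⟩ := idx_local A a b v
    exact ⟨V', c, v', h1, fun w => by rw [h2]⟩
  · intro V a b v g
    have h1 : idx A a (b ≫ A.act g) v = idx A a b v * g := by
      obtain ⟨V', c, v', h1, h2⟩ := idx_spec A a b v
      have h3 : c ≫ b ≫ A.act g = c ≫ a ≫ A.act (idx A a b v * g) := by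
        rw [A.act_mul, ← Category.assoc, h2]
        simp
      have h4 := idx_eq A a (b ≫ A.act g) c v' _ h3
      rwa [h1] at h4
    rw [h1, map_mul, mul_inv, mul_comm, Units.val_mul]

/-- The generator of `tw A θ` over `T`. -/
noncomputable def gen : EtModW.sect Λ (tw A θ) T := (exists_gen A θ).choose

theorem tevl_gen {V : X.Etale} (a b : V ⟶ T) (v : V.left) :
    tevl (gen A θ) a b v = ((θ (idx A a b v))⁻¹ : Λˣ) := (exists_gen A θ).choose_spec V a b v

theorem isGen_gen : IsGen (tw A θ) (gen A θ) := by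
  intro y
  constructor
  · rintro m ⟨V, g, v, hv, h⟩
    rw [LinearMap.toSpanSingleton_apply] at h
    have h1 : tevl (res (tw A θ) g (m • gen A θ)) (𝟙 V) g v = 0 := by rw [h, tevl_zero]
    rw [tevl_res, tevl_smul, tevl_gen, Category.id_comp, idx_self, map_one, inv_one, Units.val_one, mul_one] at h1
    exact h1
  · intro V g v hv t
    obtain ⟨V', c, v', hc, hw⟩ := tevl_local t (𝟙 V) g v
    refine ⟨tevl t (𝟙 V) g v, V', c, v', hc, ?_⟩
    rw [map_sub, sub_eq_zero, LinearMap.toSpanSingleton_apply, ← res_comp, map_smul]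
    refine tevl_ext fun W a b w => ?_
    rw [tevl_res, tevl_smul, tevl_res, tevl_gen]
    obtain ⟨W', d, w', h1, h2⟩ := idx_spec A (a ≫ c ≫ g) b w
    set k := idx A (a ≫ c ≫ g) b w with hk
    have h3 : tevl t (a ≫ c) b w = tevl t (d ≫ a ≫ c) ((d ≫ a ≫ c ≫ g) ≫ A.act k) w' := by
      rw [← h1, ← tevl_comp]
      congr 1
    rw [h3, tevl_act, mul_comm]
    congr 1
    have h4 := hw ((d ≫ a).left w')
    rw [Category.comp_id] at h4
    rw [← h4, ← tevl_comp]
    simp

theorem res_gen (g : G) : res (tw A θ) (A.act g) (gen A θ) = (θ g : Λ) • gen A θ := by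
  refine tevl_ext fun V a b v => ?_
  rw [tevl_res, tevl_smul, tevl_gen, tevl_gen]
  have h1 : idx A (a ≫ A.act g) b v = g⁻¹ * idx A a b v := by
    obtain ⟨V', c, v', h1, h2⟩ := idx_spec A a b v
    have h3 : c ≫ b = c ≫ (a ≫ A.act g) ≫ A.act (g⁻¹ * idx A a b v) := by
      rw [Category.assoc, ← A.act_mul, mul_inv_cancel_left, h2]
    have h4 := idx_eq A (a ≫ A.act g) b c v' _ h3
    rwa [h1] at h4
  rw [h1, map_mul, mul_inv, map_inv, inv_inv, Units.val_mul]

/-- `tw A θ` has a free generator over `T` on which `G` acts through `θ`. -/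
theorem hasGen_tw : HasGen (tw A θ) T A.act (fun g => (θ g : Λ)) :=
  ⟨gen A θ, isGen_gen A θ, res_gen A θ⟩

end Twist

end Groth.Agent.Sga4h.H918.Tw
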